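/-
A decreasing directed family of subfields with `⋂ k_α(k^p) = k^p` separates absolute differentials.
-/
import Mathlib

set_option autoImplicit false

universe u v

open Polynomial IntermediateField

namespace Groth.Agent.EGA41SymGr.Separate

variable {k : Type u} [Field k] (p : ℕ) [Fact p.Prime] [CharP k p]

omit [Fact p.Prime] [CharP k p] in
theorem mem_supL {S T : Subfield k} {x : k} (h : x ∈ S) : x ∈ S ⊔ T := (le_sup_left : S ≤ S ⊔ T) h

omit [Fact p.Prime] [CharP k p] in
theorem mem_supR {S T : Subfield k} {x : k} (h : x ∈ T) : x ∈ S ⊔ T := (le_sup_right : T ≤ S ⊔ T) h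

theorem minpoly_eq {M : Subfield k} {x : k} (hxp : x ^ p ∈ M) (hx : x ∉ M) :
    minpoly M x = X ^ p - C (⟨x ^ p, hxp⟩ : M) := by
  have hp : p.Prime := Fact.out
  refine (minpoly.eq_of_irreducible_of_monic ?_ (by rw [map_sub, map_pow, aeval_X, aeval_C]; exact sub_self _)
    (monic_X_pow_sub_C _ hp.ne_zero)).symm
  refine X_pow_sub_C_irreducible_of_prime hp fun b hb => hx ?_
  have h1 : (b : k) ^ p = x ^ p := congrArg Subtype.val hb
  rw [← frobenius_inj k p (h1 : frobenius k p (b : k) = frobenius k p x)]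
  exact b.2

theorem natDegree_minpoly {M : Subfield k} {x : k} (hxp : x ^ p ∈ M) (hx : x ∉ M) :
    (minpoly M x).natDegree = p := by
  rw [minpoly_eq p hxp hx, natDegree_X_pow_sub_C]

theorem isIntegral' {M : Subfield k} {x : k} (hxp : x ^ p ∈ M) : IsIntegral M x :=
  IsIntegral.of_pow (Fact.out : p.Prime).pos
    (show IsIntegral M (algebraMap M k ⟨x ^ p, hxp⟩) from isIntegral_algebraMap)

theorem sup_closure_eq (M : Subfield k) (S : Set k) :
    (IntermediateField.adjoin M S).toSubfield = M ⊔ Subfield.closure S := by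
  rw [IntermediateField.adjoin_toSubfield,
    show Set.range (algebraMap M k) = (M : Set k) from Subtype.range_coe, Subfield.closure_union, Subfield.closure_eq]

theorem exists_expansion {M : Subfield k} {x y : k} (hxp : x ^ p ∈ M) (hx : x ∉ M)
    (hy : y ∈ M ⊔ Subfield.closure {x}) :
    ∃ c : Fin p → k, (∀ j, c j ∈ M) ∧ y = ∑ j, c j * x ^ (j : ℕ) := by
  rw [← sup_closure_eq, IntermediateField.mem_toSubfield] at hy
  let pb := IntermediateField.adjoin.powerBasis (isIntegral' p hxp)
  have hdim : pb.dim = p := natDegree_minpoly p hxp hx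
  have h1 := congrArg Subtype.val (pb.basis.sum_repr ⟨y, hy⟩)
  refine ⟨fun j => (pb.basis.repr ⟨y, hy⟩ (Fin.cast hdim.symm j) : k), fun j => SetLike.coe_mem _, ?_⟩
  conv_lhs => rw [show y = ((⟨y, hy⟩ : M⟮x⟯) : k) from rfl, ← h1]
  rw [← (finCongr hdim).sum_comp fun j : Fin p =>
    ((pb.basis.repr ⟨y, hy⟩ (Fin.cast hdim.symm j) : k) * x ^ (j : ℕ)), AddSubmonoidClass.coe_finsetSum]
  refine Finset.sum_congr rfl fun i _ => ?_
  simp [pb, Algebra.smul_def]
  exact Or.inl rfl

theorem expansion_unique {M : Subfield k} {x : k} (hxp : x ^ p ∈ M) (hx : x ∉ M) {c d : Fin p → k}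
    (hc : ∀ j, c j ∈ M) (hd : ∀ j, d j ∈ M) (h : ∑ j, c j * x ^ (j : ℕ) = ∑ j, d j * x ^ (j : ℕ)) : c = d := by
  have hli := linearIndependent_pow (K := M) x
  have hdeg := natDegree_minpoly p hxp hx
  have key := Fintype.linearIndependent_iff.mp hli
    (fun i => ⟨c (Fin.cast hdeg i) - d (Fin.cast hdeg i), sub_mem (hc _) (hd _)⟩) (by
      simp only [Subfield.smul_def, smul_eq_mul, sub_mul, Finset.sum_sub_distrib]
      rw [sub_eq_zero, ← (finCongr hdeg.symm).sum_comp, ← (finCongr hdeg.symm).sum_comp]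
      simpa using h)
  funext j
  have := congrArg Subtype.val (key (Fin.cast hdeg.symm j))
  simpa [sub_eq_zero] using this

variable {ι : Type v} [Preorder ι] [IsDirected ι (· ≤ ·)] [Nonempty ι]

theorem inf_adjoin_single (L : ι → Subfield k) (hL : Antitone L) (F : Subfield k) (hFL : ∀ α, F ≤ L α)
    (hpow : ∀ y : k, y ^ p ∈ F) (hF : ∀ y, (∀ α, y ∈ L α) → y ∈ F) (x y : k)
    (hy : ∀ α, y ∈ L α ⊔ Subfield.closure {x}) : y ∈ F ⊔ Subfield.closure {x} := by
  by_cases hxF : x ∈ F
  · refine mem_supL ?_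
    refine hF y fun α => ?_
    have hle : L α ⊔ Subfield.closure {x} ≤ L α :=
      sup_le le_rfl (Subfield.closure_le.mpr (Set.singleton_subset_iff.mpr (hFL α hxF)))
    exact hle (hy α)
  obtain ⟨α₁, hα₁⟩ : ∃ α, x ∉ L α := by
    by_contra h
    push Not at h
    exact hxF (hF x h)
  have hnot : ∀ α, α₁ ≤ α → x ∉ L α := fun α hα h => hα₁ (hL hα h)
  have hxp : ∀ α, x ^ p ∈ L α := fun α => hFL α (hpow x)
  obtain ⟨c, hc, hyc⟩ := exists_expansion p (hxp α₁) hα₁ (hy α₁)
  have hall : ∀ j α, c j ∈ L α := by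
    intro j α
    obtain ⟨β, hβ, hβ'⟩ := directed_of (· ≤ ·) α α₁
    obtain ⟨d, hd, hyd⟩ := exists_expansion p (hxp β) (hnot β hβ') (hy β)
    have hcd : c = d := expansion_unique p (hxp α₁) hα₁ hc (fun i => hL hβ' (hd i)) (hyc.symm.trans hyd)
    rw [hcd]
    exact hL hβ (hd j)
  rw [hyc]
  exact sum_mem fun j _ => mul_mem (mem_supL (hF _ (hall j)))
    (pow_mem (mem_supR (Subfield.subset_closure (Set.mem_singleton x))) _)

theorem inf_adjoin_finset (L : ι → Subfield k) (hL : Antitone L) (F : Subfield k) (hFL : ∀ α, F ≤ L α)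
    (hpow : ∀ y : k, y ^ p ∈ F) (hF : ∀ y, (∀ α, y ∈ L α) → y ∈ F) (s : Finset k) :
    ∀ y, (∀ α, y ∈ L α ⊔ Subfield.closure (s : Set k)) → y ∈ F ⊔ Subfield.closure (s : Set k) := by
  classical
  induction s using Finset.induction_on with
  | empty =>
    intro y hy
    refine mem_supL (hF y fun α => ?_)
    have := hy α
    rwa [Finset.coe_empty, Subfield.closure_empty, sup_bot_eq] at this
  | insert a s ha ih =>
    intro y hy
    have hins : Subfield.closure ((insert a s : Finset k) : Set k) =
        Subfield.closure (s : Set k) ⊔ Subfield.closure {a} := by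
      rw [Finset.coe_insert, Set.insert_eq, Set.union_comm, Subfield.closure_union]
    rw [hins, ← sup_assoc]
    refine inf_adjoin_single p (fun α => L α ⊔ Subfield.closure (s : Set k)) (fun α β h => sup_le_sup_right (hL h) _)
      (F ⊔ Subfield.closure (s : Set k)) (fun α => sup_le_sup_right (hFL α) _)
      (fun z => mem_supL (hpow z)) ih a y fun α => ?_
    rw [sup_assoc, ← hins]
    exact hy α

omit [Fact p.Prime] in
theorem derivation_pow_eq_zero {R : Type*} [CommRing R] [Algebra R k] {N : Type*} [AddCommGroup N] [Module k N]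
    [Module R N] (D : Derivation R k N) (y : k) : D (y ^ p) = 0 := by
  rw [D.leibniz_pow, ← Nat.cast_smul_eq_nsmul k, CharP.cast_eq_zero, zero_smul]

/-- Differentials see membership in `k^p(S)`. -/
theorem mem_span_of_mem_closure {R : Type*} [CommRing R] [Algebra R k] (M : Subfield k)
    (hM : ∀ m ∈ M, KaehlerDifferential.D R k m = 0) (S : Set k) {y : k} (hy : y ∈ M ⊔ Subfield.closure S) :
    KaehlerDifferential.D R k y ∈ Submodule.span k (KaehlerDifferential.D R k '' S) := by
  let D := KaehlerDifferential.D R k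
  let V := Submodule.span k (D '' S)
  let W : Subfield k :=
    { carrier := {z | D z ∈ V}
      mul_mem' := fun {a b} (ha : D a ∈ V) (hb : D b ∈ V) => show D (a * b) ∈ V by
        rw [Derivation.leibniz]; exact add_mem (V.smul_mem _ hb) (V.smul_mem _ ha)
      one_mem' := by show D 1 ∈ V; simp
      add_mem' := fun {a b} (ha : D a ∈ V) (hb : D b ∈ V) => show D (a + b) ∈ V by rw [map_add]; exact add_mem ha hb
      zero_mem' := by show D 0 ∈ V; simp
      neg_mem' := fun {a} (ha : D a ∈ V) => show D (-a) ∈ V by rw [map_neg]; exact neg_mem ha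
      inv_mem' := fun a (ha : D a ∈ V) => by
        show D a⁻¹ ∈ V
        rw [Derivation.leibniz_inv]
        exact V.smul_mem _ ha }
  have hle : M ⊔ Subfield.closure S ≤ W := by
    refine sup_le (fun m hm => ?_) (Subfield.closure_le.mpr fun z hz => Submodule.subset_span ⟨z, hz, rfl⟩)
    show D m ∈ V
    rw [show D m = 0 from hM m hm]
    exact zero_mem _
  exact hle hy

/-- An element outside a subfield containing the `p`-th powers is detected by a derivation killing the subfield. -/
theorem exists_maximal_not_mem (M : Subfield k) {x : k} (hx : x ∉ M) :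
    ∃ M' : Subfield k, M ≤ M' ∧ x ∉ M' ∧ ∀ N : Subfield k, M' < N → x ∈ N := by
  obtain ⟨M', hMM', hmax⟩ := zorn_le_nonempty₀ {N : Subfield k | x ∉ N} (fun c hc hchain N hN => by
    refine ⟨sSup c, ?_, fun z hz => le_sSup hz⟩
    intro hxs
    obtain ⟨N', hN', hxN'⟩ := (Subfield.mem_sSup_of_directedOn ⟨N, hN⟩ hchain.directedOn).mp hxs
    exact hc hN' hxN') M hx
  refine ⟨M', hMM', hmax.prop, fun N hN => ?_⟩
  by_contra hxN
  exact hN.not_ge (hmax.le_of_ge hxN hN.le)

theorem D_ne_zero {M : Subfield k} {x : k} (hpow : ∀ y : k, y ^ p ∈ M) (hx : x ∉ M)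
    (hmax : ∀ N : Subfield k, M < N → x ∈ N) : KaehlerDifferential.D M k x ≠ 0 := by
  have hp : p.Prime := Fact.out
  have hgen : ∀ y, y ∈ M ⊔ Subfield.closure {x} := by
    intro y
    by_cases hy : y ∈ M
    · exact mem_supL hy
    have hxN : x ∈ M ⊔ Subfield.closure {y} := hmax _ (lt_of_le_of_ne le_sup_left fun h =>
      hy (h ▸ mem_supR (Subfield.subset_closure (Set.mem_singleton y))))
    rw [← sup_closure_eq, IntermediateField.mem_toSubfield] at hxN
    haveI := IntermediateField.adjoin.finiteDimensional (isIntegral' p (hpow y))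
    have hle : M⟮x⟯ ≤ M⟮y⟯ := IntermediateField.adjoin_simple_le_iff.mpr hxN
    have heq : M⟮x⟯ = M⟮y⟯ := IntermediateField.eq_of_le_of_finrank_eq hle (by
      rw [IntermediateField.adjoin.finrank (isIntegral' p (hpow x)), IntermediateField.adjoin.finrank (isIntegral' p (hpow y)),
        natDegree_minpoly p (hpow x) hx, natDegree_minpoly p (hpow y) hy])
    rw [← sup_closure_eq, IntermediateField.mem_toSubfield, heq]
    exact IntermediateField.mem_adjoin_simple_self M y
  intro h0
  haveI : Module.Finite M k := by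
    classical
    refine ⟨⟨(Finset.univ : Finset (Fin p)).image (fun j : Fin p => x ^ (j : ℕ)), ?_⟩⟩
    rw [eq_top_iff]
    intro y _
    obtain ⟨c, hc, rfl⟩ := exists_expansion p (hpow x) hx (hgen y)
    exact sum_mem fun j _ => Submodule.smul_mem _ (⟨c j, hc j⟩ : M) (Submodule.subset_span (by simp))
  haveI : Subsingleton (Ω[k⁄M]) := by
    have hD : ∀ y : k, KaehlerDifferential.D M k y = 0 := fun y => by
      have h1 := mem_span_of_mem_closure (R := M) M (fun m hm => (KaehlerDifferential.D M k).map_algebraMap ⟨m, hm⟩)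
        {x} (hgen y)
      rw [Set.image_singleton, h0, Submodule.span_singleton_eq_bot.mpr rfl, Submodule.mem_bot] at h1
      exact h1
    refine subsingleton_of_forall_eq 0 fun ω => ?_
    have hω : ω ∈ Submodule.span k (Set.range (KaehlerDifferential.D M k)) := by
      rw [KaehlerDifferential.span_range_derivation]; trivial
    induction hω using Submodule.span_induction with
    | mem z hz => obtain ⟨y, rfl⟩ := hz; exact hD y
    | zero => rfl
    | add a b _ _ ha hb => rw [ha, hb, add_zero]
    | smul c a _ ha => rw [ha, smul_zero]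
  haveI : Algebra.FormallyUnramified M k := ⟨inferInstance⟩
  haveI : Algebra.IsSeparable M k := Algebra.FormallyUnramified.isSeparable M k
  have hsep : (minpoly M x).Separable := Algebra.IsSeparable.isSeparable M x
  rw [minpoly_eq p (hpow x) hx, Polynomial.separable_def, derivative_sub, derivative_X_pow, derivative_C, sub_zero,
    CharP.cast_eq_zero, C_0, zero_mul, isCoprime_zero_right] at hsep
  have hdeg := natDegree_eq_zero_of_isUnit hsep
  rw [natDegree_X_pow_sub_C] at hdeg
  exact hp.ne_zero hdeg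

theorem linearIndependent_D (K₀ : Subfield k) (s : Finset k)
    (h : ∀ x ∈ s, x ∉ (K₀ ⊔ (frobenius k p).fieldRange) ⊔ Subfield.closure ((s : Set k) \ {x})) :
    LinearIndependent k (fun i : s => KaehlerDifferential.D K₀ k (i : k)) := by
  rw [linearIndependent_iff_notMem_span]
  intro i hi
  obtain ⟨M, hle, hxM, hmax⟩ := exists_maximal_not_mem _ (h i i.2)
  have hpow : ∀ y : k, y ^ p ∈ M := fun y => hle (mem_supL (mem_supR ⟨y, rfl⟩))
  have hK₀ : ∀ c ∈ K₀, KaehlerDifferential.D M k c = 0 := fun c hc =>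
    (KaehlerDifferential.D M k).map_algebraMap ⟨c, hle (mem_supL (mem_supL hc))⟩
  let L : k →ₗ[K₀] Ω[k⁄M] :=
    { toFun := fun y => KaehlerDifferential.D M k y
      map_add' := fun a b => map_add _ a b
      map_smul' := fun c y => by
        rw [Algebra.smul_def, (KaehlerDifferential.D M k).leibniz,
          show KaehlerDifferential.D M k (algebraMap K₀ k c) = 0 from hK₀ _ c.2, smul_zero, add_zero, algebraMap_smul]
        rfl }
  let D' : Derivation K₀ k (Ω[k⁄M]) := Derivation.mk' L fun a b => (KaehlerDifferential.D M k).leibniz a b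
  have hspan : Submodule.span k ((fun j : s => KaehlerDifferential.D K₀ k (j : k)) '' (Set.univ \ {i})) ≤
      LinearMap.ker D'.liftKaehlerDifferential := by
    rw [Submodule.span_le]
    rintro _ ⟨j, hj, rfl⟩
    show D'.liftKaehlerDifferential _ = 0
    rw [Derivation.liftKaehlerDifferential_comp_D]
    refine (KaehlerDifferential.D M k).map_algebraMap ⟨(j : k), hle (mem_supR (Subfield.subset_closure ⟨j.2, ?_⟩))⟩
    exact fun hji => hj.2 (Subtype.ext hji)
  have h1 := hspan hi
  rw [LinearMap.mem_ker, Derivation.liftKaehlerDifferential_comp_D] at h1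
  exact D_ne_zero p hpow hxM hmax h1

/-- Some member of the family keeps independent differentials independent. -/
theorem exists_linearIndependent (kα : ι → Subfield k) (hanti : Antitone kα)
    (hint : ⨅ α, (kα α ⊔ (frobenius k p).fieldRange) = (frobenius k p).fieldRange) (s : Finset k)
    (hs : LinearIndependent k (fun i : s => KaehlerDifferential.D ℤ k (i : k))) (α₀ : ι) :
    ∃ α, α₀ ≤ α ∧ LinearIndependent k (fun i : s => KaehlerDifferential.D (kα α) k (i : k)) := by
  classical
  let F := (frobenius k p).fieldRange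
  let L := fun α => kα α ⊔ F
  have hL : Antitone L := fun α β h => sup_le_sup_right (hanti h) _
  have hF : ∀ y, (∀ α, y ∈ L α) → y ∈ F := fun y hy => hint.le (Subfield.mem_iInf.mpr hy)
  have key : ∀ x : s, ∃ α, (x : k) ∉ L α ⊔ Subfield.closure ((s : Set k) \ {(x : k)}) := by
    intro x
    by_contra hcon
    push Not at hcon
    have h1 : (x : k) ∈ F ⊔ Subfield.closure ((s.erase x : Finset k) : Set k) :=
      inf_adjoin_finset p L hL F (fun α => le_sup_right) (fun y => ⟨y, rfl⟩) hF _ _ fun α => by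
        rw [Finset.coe_erase]; exact hcon α
    have h2 := mem_span_of_mem_closure (R := ℤ) F (by
      rintro _ ⟨y, rfl⟩
      exact derivation_pow_eq_zero p (KaehlerDifferential.D ℤ k) y) _ h1
    refine (linearIndependent_iff_notMem_span.mp hs x) (Submodule.span_mono ?_ h2)
    rintro _ ⟨y, hy, rfl⟩
    rw [Finset.coe_erase] at hy
    exact ⟨⟨y, hy.1⟩, ⟨trivial, fun e => hy.2 (congrArg Subtype.val e)⟩, rfl⟩
  choose a ha using key
  obtain ⟨α, hα⟩ := Directed.finset_le (r := (· ≤ ·)) (f := id) (hι := ⟨α₀⟩)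
    (fun i j => directed_of (· ≤ ·) i j) (insert α₀ (Finset.univ.image a))
  refine ⟨α, hα α₀ (Finset.mem_insert_self _ _), linearIndependent_D p (kα α) s fun x hx hmem => ha ⟨x, hx⟩ ?_⟩
  have hle : a ⟨x, hx⟩ ≤ α := hα _ (Finset.mem_insert_of_mem (Finset.mem_image_of_mem a (Finset.mem_univ _)))
  exact sup_le_sup_right (hL hle) _ hmem

end Groth.Agent.EGA41SymGr.Separate
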