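/-
The canonical maps `Sym^n (J/J²) → J^n/J^(n+1)` read through polynomials.
-/
import Groth.Prelude.Def_PP16
import Groth.Agent.PrinParts.Sym

set_option autoImplicit false

universe u v

open MvPolynomial
open scoped Pointwise

namespace Groth.Agent.EGA41SymGr

open Groth.Agent.PrinParts.Sym (symLift symLift_tprod hom_ext_of_span)

variable {R : Type u} [CommRing R] (J : Ideal R)

theorem prod_sub_prod_mem {ι : Type*} (x y : ι → R) (hx : ∀ i, x i ∈ J) (hy : ∀ i, y i ∈ J)
    (h : ∀ i, x i - y i ∈ J ^ 2) (s : Finset ι) :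
    ∏ i ∈ s, x i - ∏ i ∈ s, y i ∈ J ^ (s.card + 1) := by
  classical
  induction s using Finset.induction_on with
  | empty => simp
  | insert a s ha ih =>
    rw [Finset.prod_insert ha, Finset.prod_insert ha, Finset.card_insert_of_notMem ha,
      show x a * ∏ i ∈ s, x i - y a * ∏ i ∈ s, y i =
        (x a - y a) * ∏ i ∈ s, x i + y a * (∏ i ∈ s, x i - ∏ i ∈ s, y i) by ring]
    refine add_mem ?_ ?_
    · have hp : ∏ i ∈ s, x i ∈ J ^ s.card := by
        rw [← Finset.prod_const]
        exact Ideal.prod_mem_prod fun i _ => hx i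
      have := Ideal.mul_mem_mul (h a) hp
      rwa [← pow_add, show 2 + s.card = s.card + 1 + 1 by omega] at this
    · rw [pow_succ' _ (s.card + 1)]
      exact Ideal.mul_mem_mul (hy a) ih

variable {ι : Type u} [Fintype ι]

/-- The class of a product of lifts. -/
noncomputable def prodClass (w : ι → J.Cotangent) : PP16.grJ R J (Fintype.card ι) :=
  PP16.zetaJ R J fun i => Function.surjInv J.toCotangent_surjective (w i)

theorem prodClass_eq (w : ι → J.Cotangent) (x : ι → J) (h : ∀ i, J.toCotangent (x i) = w i) :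
    prodClass J w = PP16.zetaJ R J x := by
  refine (Submodule.Quotient.eq _).mpr ?_
  show _ ∈ J ^ (Fintype.card ι + 1)
  refine prod_sub_prod_mem J _ _ (fun i => Subtype.prop _) (fun i => Subtype.prop _) (fun i => ?_) Finset.univ
  exact (Ideal.toCotangent_eq _).mp ((Function.surjInv_eq J.toCotangent_surjective (w i)).trans (h i).symm)

theorem zetaJ_update [DecidableEq ι] (x : ι → J) (i : ι) (a : J) :
    ∏ j, (Function.update x i a j : R) = a * ∏ j ∈ Finset.univ \ {i}, (x j : R) := by
  rw [← Finset.prod_update_of_mem (Finset.mem_univ i)]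
  exact Finset.prod_congr rfl fun j _ => by
    by_cases hj : j = i
    · subst hj; simp
    · simp [Function.update_of_ne hj]

/-- Products as a multilinear map. -/
noncomputable def prodMulti : MultilinearMap R (fun _ : ι => J.Cotangent) (PP16.grJ R J (Fintype.card ι)) where
  toFun := prodClass J
  map_update_add' {dec} w i p q := by
    classical
    obtain rfl : dec = Classical.decEq ι := Subsingleton.elim _ _
    let x := fun j => Function.surjInv J.toCotangent_surjective (w j)
    have he : ∀ a : J, prodClass J (Function.update w i (J.toCotangent a)) = PP16.zetaJ R J (Function.update x i a) :=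
      fun a => prodClass_eq J _ _ fun j => by
        by_cases hj : j = i
        · subst hj; simp
        · simp [Function.update_of_ne hj, x, Function.surjInv_eq]
    obtain ⟨a, rfl⟩ := J.toCotangent_surjective p
    obtain ⟨b, rfl⟩ := J.toCotangent_surjective q
    rw [← map_add, he, he, he]
    refine (congrArg Submodule.Quotient.mk (Subtype.ext ?_)).trans (Submodule.Quotient.mk_add _)
    show ∏ j, (Function.update x i (a + b) j : R) =
      ∏ j, (Function.update x i a j : R) + ∏ j, (Function.update x i b j : R)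
    rw [zetaJ_update, zetaJ_update, zetaJ_update, Submodule.coe_add, add_mul]
  map_update_smul' {dec} w i c p := by
    classical
    obtain rfl : dec = Classical.decEq ι := Subsingleton.elim _ _
    let x := fun j => Function.surjInv J.toCotangent_surjective (w j)
    have he : ∀ a : J, prodClass J (Function.update w i (J.toCotangent a)) = PP16.zetaJ R J (Function.update x i a) :=
      fun a => prodClass_eq J _ _ fun j => by
        by_cases hj : j = i
        · subst hj; simp
        · simp [Function.update_of_ne hj, x, Function.surjInv_eq]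
    obtain ⟨a, rfl⟩ := J.toCotangent_surjective p
    rw [← map_smul, he, he]
    refine (congrArg Submodule.Quotient.mk (Subtype.ext ?_)).trans (Submodule.Quotient.mk_smul _ c _)
    show ∏ j, (Function.update x i (c • a) j : R) = c * ∏ j, (Function.update x i a j : R)
    rw [zetaJ_update, zetaJ_update, Submodule.coe_smul, smul_eq_mul, mul_assoc]

/-- The canonical map `Sym^n (J/J²) → J^n/J^(n+1)`. -/
noncomputable def phiJ : SymmetricPower R ι J.Cotangent →ₗ[R] PP16.grJ R J (Fintype.card ι) :=
  symLift (prodMulti J) fun e w => by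
    show prodClass J _ = prodClass J _
    exact congrArg Submodule.Quotient.mk (Subtype.ext
      (Equiv.prod_comp e fun i => ((Function.surjInv J.toCotangent_surjective (w i) : J) : R)))

theorem phiJ_tprod (x : ι → J) :
    phiJ J (SymmetricPower.tprod R fun i => J.toCotangent (x i)) = PP16.zetaJ R J x :=
  (symLift_tprod _ _ _).trans (prodClass_eq J _ x fun _ => rfl)

theorem eq_phiJ {φ : SymmetricPower R ι J.Cotangent →ₗ[R] PP16.grJ R J (Fintype.card ι)}
    (h : ∀ x : ι → J, φ (SymmetricPower.tprod R fun i => J.toCotangent (x i)) = PP16.zetaJ R J x) :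
    φ = phiJ J :=
  hom_ext_of_span (fun x : J => J.toCotangent x)
    (by rw [← LinearMap.coe_range, LinearMap.range_eq_top.mpr J.toCotangent_surjective, Submodule.span_eq])
    fun v => (h v).trans (phiJ_tprod J v).symm

theorem exists_prod_eq {T : Type*} [CommMonoid T] {n : ℕ} (hn : n = Fintype.card ι) {S : Set T} {a : T} (ha : a ∈ S ^ n) :
    ∃ v : ι → S, ∏ i, (v i : T) = a := by
  obtain ⟨g, hg⟩ := Set.mem_pow.mp ha
  refine ⟨fun i => g ((Fintype.equivFinOfCardEq hn.symm) i), ?_⟩
  rw [← hg, List.prod_ofFn]
  exact (Fintype.equivFinOfCardEq hn.symm).prod_comp fun j => (g j : T)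

theorem phiJ_surjective : Function.Surjective (phiJ J (ι := ι)) := by
  intro z
  obtain ⟨⟨y, hy⟩, rfl⟩ := Submodule.Quotient.mk_surjective _ z
  have hy' : y ∈ Submodule.span R ((J : Set R) ^ Fintype.card ι) := by
    have h1 : J ^ Fintype.card ι = Submodule.span R ((J : Set R) ^ Fintype.card ι) := by
      conv_lhs => rw [← Ideal.span_eq J]
      exact Submodule.span_pow _ _
    exact h1 ▸ hy
  suffices H : ∀ h, (Submodule.Quotient.mk ⟨y, h⟩ : PP16.grJ R J (Fintype.card ι)) ∈
      LinearMap.range (phiJ J (ι := ι)) from H hy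
  have hle : ∀ y ∈ Submodule.span R ((J : Set R) ^ Fintype.card ι), y ∈ J ^ Fintype.card ι := fun y hy => by
    refine (Submodule.span_le (p := J ^ Fintype.card ι)).mpr ?_ hy
    exact Submodule.pow_subset_pow _
  clear hy
  induction hy' using Submodule.span_induction with
  | mem a ha =>
    intro h
    obtain ⟨v, hv⟩ := exists_prod_eq (ι := ι) rfl ha
    exact ⟨SymmetricPower.tprod R fun i => J.toCotangent (v i),
      (phiJ_tprod J v).trans (congrArg Submodule.Quotient.mk (Subtype.ext hv))⟩
  | zero => intro h; exact ⟨0, by rw [map_zero]; rfl⟩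
  | add a b ha hb iha ihb =>
    intro h
    exact add_mem (iha (hle a ha)) (ihb (hle b hb))
  | smul c a ha iha =>
    intro h
    exact Submodule.smul_mem _ c (iha (hle a ha))

variable {σ : Type v}

/-- Linear forms with coefficients in `R ⧸ J`. -/
noncomputable def linQ : (σ →₀ R ⧸ J) →ₗ[R] MvPolynomial σ (R ⧸ J) :=
  (Finsupp.linearCombination (R ⧸ J) (MvPolynomial.X : σ → MvPolynomial σ (R ⧸ J))).restrictScalars R

theorem linQ_single (s : σ) (c : R ⧸ J) : linQ J (Finsupp.single s c) = C c * MvPolynomial.X s := by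
  simp [linQ, MvPolynomial.smul_eq_C_mul]

theorem linQ_isHomogeneous (a : σ →₀ R ⧸ J) : (linQ J a).IsHomogeneous 1 := by
  rw [linQ, LinearMap.restrictScalars_apply, Finsupp.linearCombination_apply]
  refine MvPolynomial.IsHomogeneous.sum _ _ _ fun i _ => ?_
  show (a i • MvPolynomial.X i : MvPolynomial σ (R ⧸ J)).IsHomogeneous 1
  rw [MvPolynomial.smul_eq_C_mul]
  exact (MvPolynomial.isHomogeneous_X _ i).C_mul _

variable (f : J.Cotangent →ₗ[R] (σ →₀ R ⧸ J)) (r : (σ →₀ R ⧸ J) →ₗ[R] J.Cotangent)

/-- The projector of the polynomial ring attached to a presentation of `J/J²` as a direct summand. -/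
noncomputable def pr : MvPolynomial σ (R ⧸ J) →ₐ[R ⧸ J] MvPolynomial σ (R ⧸ J) :=
  MvPolynomial.aeval fun s => linQ J (f (r (Finsupp.single s 1)))

theorem pr_X (s : σ) : pr J f r (X s) = linQ J (f (r (Finsupp.single s 1))) := MvPolynomial.aeval_X _ _

theorem pr_isHomogeneous {n : ℕ} {F : MvPolynomial σ (R ⧸ J)} (hF : F.IsHomogeneous n) :
    (pr J f r F).IsHomogeneous n := by
  have := MvPolynomial.IsHomogeneous.aeval (n := 1) hF (fun s => linQ J (f (r (Finsupp.single s 1))))
    (fun s => linQ_isHomogeneous J _)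
  simpa [pr] using this

theorem pr_linQ (a : σ →₀ R ⧸ J) : pr J f r (linQ J a) = linQ J (f (r a)) := by
  induction a using Finsupp.induction_linear with
  | zero => simp
  | add a b ha hb => simp only [map_add, ha, hb]
  | single s c =>
    obtain ⟨c, rfl⟩ := Ideal.Quotient.mk_surjective c
    have hs : Finsupp.single s (Ideal.Quotient.mk J c) = c • Finsupp.single s (1 : R ⧸ J) := by
      simp [Algebra.smul_def]
    conv_rhs => rw [hs, map_smul, map_smul, map_smul, Algebra.smul_def,
      IsScalarTower.algebraMap_apply R (R ⧸ J) (MvPolynomial σ (R ⧸ J)), Ideal.Quotient.algebraMap_eq,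
      MvPolynomial.algebraMap_eq]
    rw [linQ_single, map_mul, pr_X, show pr J f r (C (Ideal.Quotient.mk J c)) = C (Ideal.Quotient.mk J c) from
      (pr J f r).commutes _]

variable {f r} (hrf : ∀ y, r (f y) = y)
include hrf

theorem pr_idem (F : MvPolynomial σ (R ⧸ J)) : pr J f r (pr J f r F) = pr J f r F := by
  refine DFunLike.congr_fun (?_ : (pr J f r).comp (pr J f r) = pr J f r) F
  refine MvPolynomial.algHom_ext fun s => ?_
  rw [AlgHom.comp_apply, pr_X, pr_linQ, hrf]

omit hrf

/-- The canonical maps are injective when read through polynomials. -/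
def QReg (f : J.Cotangent →ₗ[R] (σ →₀ R ⧸ J)) (r : (σ →₀ R ⧸ J) →ₗ[R] J.Cotangent) (x : σ → R) : Prop :=
  ∀ (n : ℕ) (P : MvPolynomial σ R), P.IsHomogeneous n → MvPolynomial.eval x P ∈ J ^ (n + 1) →
    pr J f r (MvPolynomial.map (Ideal.Quotient.mk J) P) = 0

theorem exists_sum_single (d : σ →₀ ℕ) (hd : d.degree = Fintype.card ι) :
    ∃ v : ι → σ, ∑ i, Finsupp.single (v i) 1 = d := by
  classical
  have h1 : (monomial d 1 : MvPolynomial σ ℕ) ∈ Submodule.span ℕ ((Set.range (MvPolynomial.X : σ → MvPolynomial σ ℕ)) ^ Fintype.card ι) := by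
    rw [← Submodule.span_pow, ← homogeneousSubmodule_one_eq_span_X, homogeneousSubmodule_one_pow,
      mem_homogeneousSubmodule]
    exact isHomogeneous_monomial 1 hd
  by_contra hne
  push Not at hne
  have h2 : ∀ F ∈ Submodule.span ℕ ((Set.range (MvPolynomial.X : σ → MvPolynomial σ ℕ)) ^ Fintype.card ι),
      coeff d F = 0 := by
    intro F hF
    induction hF using Submodule.span_induction with
    | mem a ha =>
      obtain ⟨v, hv⟩ := exists_prod_eq (ι := ι) rfl ha
      choose w hw using fun i => (v i).2
      have hp : (∏ i, (v i : MvPolynomial σ ℕ)) = monomial (∑ i, Finsupp.single (w i) 1) 1 := by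
        rw [monomial_sum_one]
        exact Finset.prod_congr rfl fun i _ => (hw i).symm
      rw [← hv, hp, coeff_monomial, if_neg (hne w)]
    | zero => simp
    | add a b _ _ ha hb => simp [ha, hb]
    | smul c a _ ha => rw [coeff_smul, ha, smul_zero]
  simpa using h2 _ h1

theorem prod_X_eq (v : ι → σ) :
    (∏ i, X (v i) : MvPolynomial σ R) = monomial (∑ i, Finsupp.single (v i) 1) 1 :=
  (monomial_sum_one Finset.univ fun i => Finsupp.single (v i) 1).symm

theorem isHomogeneous_induction {p : MvPolynomial σ R → Prop} {P : MvPolynomial σ R}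
    (hP : P.IsHomogeneous (Fintype.card ι)) (h0 : p 0) (hadd : ∀ a b, p a → p b → p (a + b))
    (hmem : ∀ (c : R) (v : ι → σ), p (c • ∏ i, X (v i))) : p P := by
  classical
  rw [P.as_sum]
  refine Finset.sum_induction _ p hadd h0 fun d hd => ?_
  have hdeg : d.degree = Fintype.card ι := by
    rw [Finsupp.degree_eq_weight_one]
    exact hP (mem_support_iff.mp hd)
  obtain ⟨v, hv⟩ := exists_sum_single (ι := ι) d hdeg
  have := hmem (coeff d P) v
  rwa [prod_X_eq, hv, smul_monomial, smul_eq_mul, mul_one] at this

theorem isHomogeneous_prod_X (v : ι → σ) : (∏ i, X (v i) : MvPolynomial σ R).IsHomogeneous (Fintype.card ι) := by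
  simpa using MvPolynomial.IsHomogeneous.prod Finset.univ (fun i => (X (v i) : MvPolynomial σ R)) (fun _ => 1)
    fun i _ => isHomogeneous_X R _

open scoped Classical in
/-- Symmetric monomials. -/
noncomputable def back (r : (σ →₀ R ⧸ J) →ₗ[R] J.Cotangent) :
    MvPolynomial σ R →ₗ[R] SymmetricPower R ι J.Cotangent :=
  (MvPolynomial.basisMonomials σ R).constr R fun d =>
    if h : ∃ v : ι → σ, ∑ i, Finsupp.single (v i) 1 = d then
      SymmetricPower.tprod R fun i => r (Finsupp.single (h.choose i) 1) else 0

theorem back_prod_X (v : ι → σ) :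
    back J r (∏ i, X (v i)) = SymmetricPower.tprod R fun i => r (Finsupp.single (v i) 1) := by
  classical
  have hex : ∃ w : ι → σ, ∑ i, Finsupp.single (w i) 1 = ∑ i, Finsupp.single (v i) 1 := ⟨v, rfl⟩
  rw [prod_X_eq, show monomial (∑ i, Finsupp.single (v i) 1) (1 : R) =
      MvPolynomial.basisMonomials σ R (∑ i, Finsupp.single (v i) 1) from
        (congrFun (MvPolynomial.coe_basisMonomials σ R) _).symm, back, Module.Basis.constr_basis, dif_pos hex]
  set w := hex.choose
  have hcount : ∀ s, Fintype.card {i // w i = s} = Fintype.card {i // v i = s} := fun s => by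
    have := congrArg (fun d : σ →₀ ℕ => d s) hex.choose_spec
    simpa [Finsupp.finsetSum_apply, Finsupp.single_apply, Fintype.card_subtype, Finset.sum_boole] using this
  let π : Equiv.Perm ι := (Equiv.sigmaFiberEquiv w).symm.trans
    ((Equiv.sigmaCongrRight fun s => Fintype.equivOfCardEq (hcount s)).trans (Equiv.sigmaFiberEquiv v))
  have hπ : ∀ i, v (π i) = w i := fun i => (Fintype.equivOfCardEq (hcount (w i)) ⟨i, rfl⟩).2
  simp only [← hπ]
  exact SymmetricPower.tprod_equiv π fun i => r (Finsupp.single (v i) 1)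

variable (x : σ → R) (hx : ∀ s, ∃ h : x s ∈ J, J.toCotangent ⟨x s, h⟩ = r (Finsupp.single s 1))
include hx

theorem eval_mem {P : MvPolynomial σ R} (hP : P.IsHomogeneous (Fintype.card ι)) :
    eval x P ∈ J ^ Fintype.card ι := by
  refine isHomogeneous_induction (ι := ι) (p := fun P => eval x P ∈ J ^ Fintype.card ι) hP
    (by simp) (fun a b ha hb => by rw [map_add]; exact add_mem ha hb) fun c v => ?_
  rw [smul_eval, map_prod]
  refine Ideal.mul_mem_left _ _ ?_
  rw [← Finset.card_univ, ← Finset.prod_const]
  exact Ideal.prod_mem_prod fun i _ => by rw [eval_X]; exact (hx _).1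

theorem phiJ_back {P : MvPolynomial σ R} (hP : P.IsHomogeneous (Fintype.card ι)) :
    phiJ J (back J r P) = Submodule.Quotient.mk ⟨eval x P, eval_mem J x hx hP⟩ := by
  suffices H : ∃ h : eval x P ∈ J ^ Fintype.card ι, phiJ J (back (ι := ι) J r P) = Submodule.Quotient.mk ⟨eval x P, h⟩ from
    H.choose_spec
  refine isHomogeneous_induction (ι := ι)
    (p := fun P => ∃ h : eval x P ∈ J ^ Fintype.card ι, phiJ J (back (ι := ι) J r P) = Submodule.Quotient.mk ⟨eval x P, h⟩) hP
    ⟨by simp, by rw [map_zero, map_zero]; exact congrArg Submodule.Quotient.mk (Subtype.ext (map_zero (eval x)).symm)⟩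
    (fun a b ⟨ha, ha'⟩ ⟨hb, hb'⟩ => ⟨by rw [map_add]; exact add_mem ha hb, by
      rw [map_add, map_add, ha', hb']
      exact congrArg Submodule.Quotient.mk (Subtype.ext (map_add (eval x) a b).symm)⟩) fun c v => ?_
  have hm := eval_mem J x hx (isHomogeneous_prod_X (R := R) v)
  refine ⟨by rw [smul_eval]; exact Ideal.mul_mem_left _ _ hm, ?_⟩
  rw [map_smul, map_smul, back_prod_X,
    show (fun i => r (Finsupp.single (v i) 1)) = fun i => J.toCotangent ⟨x (v i), (hx _).1⟩ from
      funext fun i => (hx _).2.symm, phiJ_tprod]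
  refine congrArg Submodule.Quotient.mk (Subtype.ext ?_)
  show c * ∏ i, x (v i) = eval x (c • ∏ i, X (v i))
  rw [smul_eval, map_prod]
  simp

omit hx

theorem prod_linearCombination (a : ι → σ →₀ R) :
    back J r (∏ i, Finsupp.linearCombination R (X : σ → MvPolynomial σ R) (a i)) =
      SymmetricPower.tprod R fun i => r ((a i).mapRange (Ideal.Quotient.mk J) (map_zero _)) := by
  classical
  have hv : ∀ i, r ((a i).mapRange (Ideal.Quotient.mk J) (map_zero _)) =
      ∑ s ∈ (a i).support, a i s • r (Finsupp.single s 1) := fun i => by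
    have h1 : (a i).mapRange (Ideal.Quotient.mk J) (map_zero _) = ∑ s ∈ (a i).support, a i s • Finsupp.single s (1 : R ⧸ J) := by
      conv_lhs => rw [← Finsupp.sum_single (a i), Finsupp.sum]
      rw [show Finsupp.mapRange (Ideal.Quotient.mk J) (map_zero _) (∑ s ∈ (a i).support, Finsupp.single s (a i s)) =
          Finsupp.mapRange.addMonoidHom (Ideal.Quotient.mk J).toAddMonoidHom
            (∑ s ∈ (a i).support, Finsupp.single s (a i s)) from rfl, map_sum]
      refine Finset.sum_congr rfl fun s _ => ?_
      simp [Finsupp.mapRange_single, Algebra.smul_def]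
    rw [h1, map_sum]
    exact Finset.sum_congr rfl fun s _ => map_smul r _ _
  simp only [hv, Finsupp.linearCombination_apply, Finsupp.sum]
  rw [MultilinearMap.map_sum_finset, Finset.prod_univ_sum, map_sum]
  refine Finset.sum_congr rfl fun w _ => ?_
  rw [MultilinearMap.map_smul_univ, Finset.prod_smul, map_smul, back_prod_X]

theorem back_eq_zero_of_map [Nonempty ι] {P : MvPolynomial σ R} (hP : P.IsHomogeneous (Fintype.card ι))
    (h0 : MvPolynomial.map (Ideal.Quotient.mk J) P = 0) : back (ι := ι) J r P = 0 := by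
  classical
  rw [P.as_sum, map_sum]
  refine Finset.sum_eq_zero fun d hd => ?_
  obtain ⟨v, hv⟩ := exists_sum_single (ι := ι) d (by
    rw [Finsupp.degree_eq_weight_one]; exact hP (mem_support_iff.mp hd))
  have hc : coeff d P ∈ J := by
    rw [← Ideal.Quotient.eq_zero_iff_mem, ← coeff_map, h0, coeff_zero]
  rw [show monomial d (coeff d P) = coeff d P • (∏ i, X (v i) : MvPolynomial σ R) by
    rw [prod_X_eq, hv, smul_monomial, smul_eq_mul, mul_one], map_smul, back_prod_X]
  let i₀ := Classical.arbitrary ι
  let u := fun i => r (Finsupp.single (v i) 1)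
  have hJ : coeff d P • u i₀ = 0 := by
    show coeff d P • r (Finsupp.single (v i₀) 1) = 0
    rw [← map_smul, Finsupp.smul_single, Algebra.smul_def, Ideal.Quotient.algebraMap_eq,
      Ideal.Quotient.eq_zero_iff_mem.mpr hc, zero_mul, Finsupp.single_zero, map_zero]
  have := (SymmetricPower.tprod R (ι := ι) (M := J.Cotangent)).map_update_smul u i₀ (coeff d P) (u i₀)
  rw [hJ, Function.update_eq_self, MultilinearMap.map_update_zero] at this
  exact this.symm

theorem map_linearCombination (a : σ →₀ R) :
    MvPolynomial.map (Ideal.Quotient.mk J) (Finsupp.linearCombination R (X : σ → MvPolynomial σ R) a) =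
      linQ J (a.mapRange (Ideal.Quotient.mk J) (map_zero _)) := by
  induction a using Finsupp.induction_linear with
  | zero => simp
  | add a b ha hb => rw [map_add, map_add, ha, hb, Finsupp.mapRange_add (map_add _), map_add]
  | single s c => simp [linQ_single, MvPolynomial.smul_eq_C_mul]

include hrf in
theorem back_eq_zero [Nonempty ι] {P : MvPolynomial σ R} (hP : P.IsHomogeneous (Fintype.card ι))
    (h0 : pr J f r (MvPolynomial.map (Ideal.Quotient.mk J) P) = 0) : back (ι := ι) J r P = 0 := by
  choose L hL using fun s => Finsupp.mapRange_surjective (α := σ) (Ideal.Quotient.mk J) (map_zero _)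
    Ideal.Quotient.mk_surjective (f (r (Finsupp.single s 1)))
  let Φ : MvPolynomial σ R →ₐ[R] MvPolynomial σ R :=
    aeval fun s => Finsupp.linearCombination R (X : σ → MvPolynomial σ R) (L s)
  have hΦ : ∀ Q, MvPolynomial.map (Ideal.Quotient.mk J) (Φ Q) = pr J f r (MvPolynomial.map (Ideal.Quotient.mk J) Q) := by
    intro Q
    refine DFunLike.congr_fun (?_ : (MvPolynomial.map (Ideal.Quotient.mk J)).comp Φ.toRingHom =
      ((pr J f r).toRingHom).comp (MvPolynomial.map (Ideal.Quotient.mk J))) Q
    refine MvPolynomial.ringHom_ext (fun c => ?_) fun s => ?_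
    · simp [Φ, pr]
    · show MvPolynomial.map _ (Φ (X s)) = pr J f r (MvPolynomial.map _ (X s))
      rw [map_X, pr_X, aeval_X, map_linearCombination, hL]
  have hhom : (Φ P).IsHomogeneous (Fintype.card ι) := by
    have h1 : ∀ s, (Finsupp.linearCombination R (X : σ → MvPolynomial σ R) (L s)).IsHomogeneous 1 := fun s => by
      rw [Finsupp.linearCombination_apply]
      refine MvPolynomial.IsHomogeneous.sum _ _ _ fun i _ => ?_
      show (L s i • X i : MvPolynomial σ R).IsHomogeneous 1
      rw [MvPolynomial.smul_eq_C_mul]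
      exact (isHomogeneous_X _ i).C_mul _
    have := MvPolynomial.IsHomogeneous.aeval (n := 1) hP _ h1
    simpa [Φ] using this
  have hkey : back (ι := ι) J r (Φ P) = back (ι := ι) J r P := by
    refine isHomogeneous_induction (ι := ι) (p := fun P => back (ι := ι) J r (Φ P) = back (ι := ι) J r P) hP
      (by simp) (fun a b ha hb => by simp only [map_add, ha, hb]) fun c v => ?_
    rw [map_smul, map_smul, map_smul, map_prod, back_prod_X]
    simp only [Φ, aeval_X]
    rw [prod_linearCombination J fun i => L (v i)]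
    simp only [hL, hrf]
  rw [← hkey]
  exact back_eq_zero_of_map J hhom (by rw [hΦ, h0])

include hrf in
theorem exists_back_eq (z : SymmetricPower R ι J.Cotangent) :
    ∃ P : MvPolynomial σ R, P.IsHomogeneous (Fintype.card ι) ∧ back J r P = z := by
  have hz : z ∈ Submodule.span R (Set.range (SymmetricPower.tprod R (ι := ι) (M := J.Cotangent))) := by
    rw [SymmetricPower.span_tprod_eq_top]; trivial
  induction hz using Submodule.span_induction with
  | mem z hz =>
    obtain ⟨v, rfl⟩ := hz
    choose a ha using fun i => Finsupp.mapRange_surjective (α := σ) (Ideal.Quotient.mk J) (map_zero _)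
      Ideal.Quotient.mk_surjective (f (v i))
    refine ⟨∏ i, Finsupp.linearCombination R (X : σ → MvPolynomial σ R) (a i), ?_, ?_⟩
    · have h1 : ∀ i, (Finsupp.linearCombination R (X : σ → MvPolynomial σ R) (a i)).IsHomogeneous 1 := fun i => by
        rw [Finsupp.linearCombination_apply]
        refine MvPolynomial.IsHomogeneous.sum _ _ _ fun s _ => ?_
        show (a i s • X s : MvPolynomial σ R).IsHomogeneous 1
        rw [MvPolynomial.smul_eq_C_mul]
        exact (isHomogeneous_X _ s).C_mul _
      simpa using MvPolynomial.IsHomogeneous.prod Finset.univ _ (fun _ => 1) fun i _ => h1 i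
    · rw [prod_linearCombination]
      simp only [ha, hrf]
  | zero => exact ⟨0, isHomogeneous_zero _ _ _, map_zero _⟩
  | add a b _ _ ha hb =>
    obtain ⟨P, hP, rfl⟩ := ha
    obtain ⟨Q, hQ, rfl⟩ := hb
    exact ⟨P + Q, hP.add hQ, map_add _ _ _⟩
  | smul c a _ ha =>
    obtain ⟨P, hP, rfl⟩ := ha
    exact ⟨c • P, (homogeneousSubmodule σ R _).smul_mem c hP, map_smul _ _ _⟩

variable (f) in
/-- Symmetric powers to polynomials. -/
noncomputable def symQ : SymmetricPower R ι J.Cotangent →ₗ[R] MvPolynomial σ (R ⧸ J) :=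
  symLift ((MultilinearMap.mkPiAlgebra R ι (MvPolynomial σ (R ⧸ J))).compLinearMap fun _ => linQ J ∘ₗ f)
    fun e v => by
      simp only [MultilinearMap.compLinearMap_apply, MultilinearMap.mkPiAlgebra_apply]
      exact Equiv.prod_comp e fun i => (linQ J ∘ₗ f) (v i)

theorem symQ_back {P : MvPolynomial σ R} (hP : P.IsHomogeneous (Fintype.card ι)) :
    symQ (ι := ι) J f (back J r P) = pr J f r (MvPolynomial.map (Ideal.Quotient.mk J) P) := by
  refine isHomogeneous_induction (ι := ι)
    (p := fun P => symQ (ι := ι) J f (back J r P) = pr J f r (MvPolynomial.map (Ideal.Quotient.mk J) P)) hP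
    (by simp) (fun a b ha hb => by simp only [map_add, ha, hb]) fun c v => ?_
  rw [map_smul, map_smul, back_prod_X, symQ, symLift_tprod, MvPolynomial.smul_eq_C_mul, map_mul, map_C, map_mul,
    map_prod, map_prod]
  simp only [map_X, pr_X, MultilinearMap.compLinearMap_apply, MultilinearMap.mkPiAlgebra_apply, LinearMap.comp_apply]
  rw [show pr J f r (C (Ideal.Quotient.mk J c)) = C (Ideal.Quotient.mk J c) from (pr J f r).commutes _,
    Algebra.smul_def]
  rfl

include hrf hx in
theorem symGrBijective_iff_qreg : PP16.SymGrBijective R J ↔ QReg J f r x := by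
  refine ⟨fun h n P hP hmem => ?_, fun h ι _ _ => ⟨phiJ J, phiJ_tprod J, ?_, phiJ_surjective J⟩⟩
  · rcases Nat.eq_zero_or_pos n with rfl | hn
    · have hC : P = C (coeff 0 P) := by
        refine totalDegree_eq_zero_iff_eq_C.mp (Nat.eq_zero_of_le_zero ?_)
        exact hP.totalDegree_le
      rw [hC] at hmem ⊢
      rw [eval_C, zero_add, pow_one] at hmem
      rw [map_C, Ideal.Quotient.eq_zero_iff_mem.mpr hmem, map_zero, map_zero]
    haveI : NeZero n := ⟨by omega⟩
    haveI : Nonempty (ULift.{u} (Fin n)) := ⟨⟨0⟩⟩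
    have hcard : Fintype.card (ULift.{u} (Fin n)) = n := by simp
    have hP' : P.IsHomogeneous (Fintype.card (ULift.{u} (Fin n))) := by rw [hcard]; exact hP
    obtain ⟨φ, hφ, hbij⟩ := h (ULift.{u} (Fin n))
    rw [eq_phiJ J hφ] at hbij
    have hz : back (ι := ULift.{u} (Fin n)) J r P = 0 := by
      refine hbij.1 ?_
      rw [map_zero, phiJ_back J x hx hP', Submodule.Quotient.mk_eq_zero]
      show eval x P ∈ J ^ (Fintype.card (ULift.{u} (Fin n)) + 1)
      rwa [hcard]
    rw [← symQ_back J hP', hz, map_zero]
  · rw [injective_iff_map_eq_zero]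
    intro z hz
    obtain ⟨P, hP, rfl⟩ := exists_back_eq J hrf z
    refine back_eq_zero J hrf hP (h _ P hP ?_)
    rwa [phiJ_back J x hx hP, Submodule.Quotient.mk_eq_zero] at hz

end Groth.Agent.EGA41SymGr
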