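/-
Formal smoothness for the `J`-adic topology when `B ⧸ J` is formally smooth, in terms of `J/J²` and the
symmetric powers.
-/
import Groth.Agent.EGA41SymGr.Basic
import Groth.Prelude.Def_CAlgX
import Mathlib

set_option autoImplicit false

universe u

open MvPolynomial

namespace Groth.Agent.EGA41SymGr

variable {A B : Type u} [CommRing A] [CommRing B] [Algebra A B] (J : Ideal B)

/-- Lifts of `B ⧸ J → T` along a square-zero extension of test algebras. -/
theorem exists_section_mod [Algebra.FormallySmooth A (B ⧸ J)] (N : ℕ) :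
    ∃ s : (B ⧸ J) →ₐ[A] B ⧸ J ^ (N + 1), ∀ c, Ideal.Quotient.factor (Ideal.pow_le_self (Nat.succ_ne_zero N)) (s c) = c := by
  let π : B ⧸ J ^ (N + 1) →ₐ[A] B ⧸ J := Ideal.Quotient.factorₐ A (Ideal.pow_le_self (Nat.succ_ne_zero N))
  have hs : Function.Surjective π := Ideal.Quotient.factor_surjective (Ideal.pow_le_self (Nat.succ_ne_zero N))
  have hk : IsNilpotent (RingHom.ker π.toRingHom) := by
    refine ⟨N + 1, ?_⟩
    rw [show RingHom.ker π.toRingHom = J.map (Ideal.Quotient.mk (J ^ (N + 1))) from Ideal.Quotient.factor_ker (Ideal.pow_le_self (Nat.succ_ne_zero N)),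
      ← Ideal.map_pow, Ideal.map_quotient_self, Ideal.zero_eq_bot]
  exact ⟨Algebra.FormallySmooth.liftOfSurjective (AlgHom.id A (B ⧸ J)) π hs hk,
    Algebra.FormallySmooth.liftOfSurjective_apply (AlgHom.id A (B ⧸ J)) π hs hk⟩

variable {σ : Type u} {f : J.Cotangent →ₗ[B] (σ →₀ B ⧸ J)} {r : (σ →₀ B ⧸ J) →ₗ[B] J.Cotangent}

theorem exists_lifts (r : (σ →₀ B ⧸ J) →ₗ[B] J.Cotangent) :
    ∃ x : σ → B, ∀ s, ∃ h : x s ∈ J, J.toCotangent ⟨x s, h⟩ = r (Finsupp.single s 1) := by
  choose y hy using fun s => J.toCotangent_surjective (r (Finsupp.single s 1))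
  exact ⟨fun s => y s, fun s => ⟨(y s).2, hy s⟩⟩

section truncation

variable [Algebra.FormallySmooth A (B ⧸ J)] (hrf : ∀ y, r (f y) = y)

include hrf in
/-- The truncations of `B` embed into truncated polynomial rings. -/
theorem exists_embedding (hQ : ∀ x : σ → B, (∀ s, ∃ h : x s ∈ J, J.toCotangent ⟨x s, h⟩ = r (Finsupp.single s 1)) →
      QReg J f r x) (N : ℕ) (hN : 1 ≤ N) :
    ∃ (τ : MvPolynomial σ (B ⧸ J) →ₐ[A] B ⧸ J ^ (N + 1))
      (ρ : B →ₐ[A] MvPolynomial σ (B ⧸ J) ⧸ idealOfVars σ (B ⧸ J) ^ (N + 1)),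
      (∀ s, τ (X s) ∈ J.map (Ideal.Quotient.mk (J ^ (N + 1)))) ∧
      ∀ b, ∃ F, ρ b = Ideal.Quotient.mk _ F ∧ τ F = Ideal.Quotient.mk (J ^ (N + 1)) b := by
  classical
  obtain ⟨sec, hsec⟩ := exists_section_mod (A := A) J N
  obtain ⟨x₀, hx₀⟩ := exists_lifts J r
  let q := Ideal.Quotient.mk (J ^ (N + 1))
  let p := pr J f r
  let τ₀ : MvPolynomial σ (B ⧸ J) →ₐ[A] B ⧸ J ^ (N + 1) :=
    { MvPolynomial.eval₂Hom sec.toRingHom (fun s => q (x₀ s)) with
      commutes' := fun a => by
        show MvPolynomial.eval₂ _ _ (algebraMap A (MvPolynomial σ (B ⧸ J)) a) = _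
        rw [IsScalarTower.algebraMap_apply A (B ⧸ J) (MvPolynomial σ (B ⧸ J)), MvPolynomial.algebraMap_eq, eval₂_C]
        exact sec.commutes a }
  have hτ₀X : ∀ s, τ₀ (X s) = q (x₀ s) := fun s => eval₂_X _ _ s
  let τ : MvPolynomial σ (B ⧸ J) →ₐ[A] B ⧸ J ^ (N + 1) := τ₀.comp (p.restrictScalars A)
  have hττ : ∀ F, τ (p F) = τ F := fun F => congrArg τ₀ (pr_idem J hrf F)
  have hτC : ∀ c, τ (C c) = sec c := fun c => by
    show τ₀ (p (C c)) = _
    rw [show p (C c) = C c from p.commutes c]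
    exact eval₂_C _ _ _
  -- the variables go to lifts of the generators
  have hqJ : ∀ a : σ →₀ B ⧸ J, ∃ y : J, q y = τ₀ (linQ J a) ∧ J.toCotangent y = r a := by
    intro a
    induction a using Finsupp.induction_linear with
    | zero => exact ⟨0, by simp, by simp⟩
    | add a b ha hb =>
      obtain ⟨y, hy, hy'⟩ := ha
      obtain ⟨z, hz, hz'⟩ := hb
      exact ⟨y + z, by rw [map_add, map_add, ← hy, ← hz]; rfl, by rw [map_add, map_add, hy', hz']⟩
    | single s c =>
      obtain ⟨h, h'⟩ := hx₀ s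
      obtain ⟨b, hb⟩ := Ideal.Quotient.mk_surjective (sec c)
      refine ⟨⟨b * x₀ s, Ideal.mul_mem_left _ _ h⟩, ?_, ?_⟩
      · show q (b * x₀ s) = τ₀ (linQ J (Finsupp.single s c))
        rw [linQ_single, map_mul τ₀, hτ₀X, show τ₀ (C c) = sec c from eval₂_C _ _ _, ← hb]
        exact map_mul q b _
      · have hc : c = Ideal.Quotient.mk J b := by
          rw [← hsec c, ← hb, Ideal.Quotient.factor_mk]
        rw [show (⟨b * x₀ s, Ideal.mul_mem_left _ _ h⟩ : J) = b • ⟨x₀ s, h⟩ from rfl, map_smul, h',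
          ← map_smul, Finsupp.smul_single, hc, Algebra.smul_def, mul_one, Ideal.Quotient.algebraMap_eq]
  choose y hy hy' using hqJ
  let x : σ → B := fun s => y (f (r (Finsupp.single s 1)))
  have hτX : ∀ s, τ (X s) = q (x s) := fun s => by
    show τ₀ (p (X s)) = _
    rw [show p (X s) = _ from pr_X J f r s]
    exact (hy _).symm
  have hx : ∀ s, ∃ h : x s ∈ J, J.toCotangent ⟨x s, h⟩ = r (Finsupp.single s 1) := fun s =>
    ⟨(y _).2, (hy' _).trans (hrf _)⟩
  let V := idealOfVars σ (B ⧸ J)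
  have hτV : V.map τ.toRingHom ≤ J.map q := by
    rw [Ideal.map_span, Ideal.span_le]
    rintro _ ⟨_, ⟨s, rfl⟩, rfl⟩
    exact (hτX s).symm ▸ Ideal.mem_map_of_mem q (hx s).1
  -- lifting polynomials to `B`
  have hlift : ∀ (n : ℕ) (P : MvPolynomial σ B), P.IsHomogeneous n →
      τ (MvPolynomial.map (Ideal.Quotient.mk J) P) - q (eval x P) ∈ (J ^ (n + 1)).map q := by
    intro n P hP
    rw [P.as_sum, map_sum, map_sum, map_sum, map_sum, ← Finset.sum_sub_distrib]
    refine sum_mem fun d hd => ?_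
    obtain ⟨b, hb⟩ := Ideal.Quotient.mk_surjective (sec (Ideal.Quotient.mk J (coeff d P)))
    have hdeg : d.degree = n := by
      rw [Finsupp.degree_eq_weight_one]; exact hP (mem_support_iff.mp hd)
    have hmon : τ (monomial d 1) = q (eval x (monomial d 1)) := by
      rw [monomial_eq, monomial_eq, C_1, C_1, one_mul, one_mul, Finsupp.prod, Finsupp.prod, map_prod, map_prod, map_prod]
      refine Finset.prod_congr rfl fun s _ => ?_
      rw [map_pow, map_pow, map_pow, hτX, eval_X]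
    have hev : eval x (monomial d 1) ∈ J ^ n := by
      rw [eval_monomial, one_mul, ← hdeg, Finsupp.degree_apply, Finsupp.prod]
      rw [← Finset.prod_pow_eq_pow_sum]
      exact Ideal.prod_mem_prod fun s _ => Ideal.pow_mem_pow (hx s).1 _
    have e1 : ∀ (T : Type u) [CommRing T] (c : T), monomial d c = C c * monomial d (1 : T) := fun T _ c => by
      rw [C_mul_monomial, mul_one]
    rw [map_monomial, e1 (B ⧸ J), e1 B, map_mul, map_mul, hτC, eval_C, hmon, map_mul, ← hb, ← sub_mul,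
      ← map_sub, ← map_mul]
    refine Ideal.mem_map_of_mem q ?_
    rw [pow_succ']
    refine Ideal.mul_mem_mul ?_ hev
    rw [← Ideal.Quotient.eq]
    have := hsec (Ideal.Quotient.mk J (coeff d P))
    rwa [← hb, Ideal.Quotient.factor_mk] at this
  -- kernel
  have hker : ∀ F, τ F = 0 → p F ∈ V ^ (N + 1) := by
    intro F hF
    suffices H : ∀ n ≤ N + 1, p F ∈ V ^ n from H _ le_rfl
    intro n hn
    induction n with
    | zero => simp
    | succ n ih =>
      have hG := ih (by omega)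
      set G := p F
      let Gn := homogeneousComponent n G
      have hrest : G - Gn ∈ V ^ (n + 1) := by
        rw [mem_pow_idealOfVars_iff']
        intro d hd
        rw [coeff_sub, coeff_homogeneousComponent]
        by_cases h : d.degree = n
        · rw [if_pos h, sub_self]
        · rw [if_neg h, sub_zero]
          exact (mem_pow_idealOfVars_iff' n G).mp hG d (by omega)
      have hGn : Gn.IsHomogeneous n := homogeneousComponent_isHomogeneous n G
      obtain ⟨P, hP, hPG⟩ : ∃ P : MvPolynomial σ B, P.IsHomogeneous n ∧ MvPolynomial.map (Ideal.Quotient.mk J) P = Gn := by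
        choose c hc using fun d => Ideal.Quotient.mk_surjective (coeff d Gn)
        refine ⟨∑ d ∈ Gn.support, monomial d (c d), IsHomogeneous.sum _ _ _ fun d hd => ?_, ?_⟩
        · refine isHomogeneous_monomial _ ?_
          rw [Finsupp.degree_eq_weight_one]
          exact hGn (mem_support_iff.mp hd)
        · rw [map_sum]
          simp only [map_monomial, hc]
          exact Gn.as_sum.symm
      have hmem : eval x P ∈ J ^ (n + 1) := by
        have h1 : q (eval x P) ∈ (J ^ (n + 1)).map q := by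
          have h2 := hlift n P hP
          rw [hPG] at h2
          have h3 : τ Gn ∈ (J ^ (n + 1)).map q := by
            have h4 : τ (G - Gn) ∈ (J ^ (n + 1)).map q := by
              have := Ideal.mem_map_of_mem τ.toRingHom hrest
              rw [Ideal.map_pow] at this
              rw [Ideal.map_pow]
              exact Ideal.pow_right_mono hτV _ this
            rw [map_sub, show τ G = 0 from (hττ F).trans hF, zero_sub] at h4
            exact neg_mem_iff.mp h4
          rw [show q (eval x P) = τ Gn - (τ Gn - q (eval x P)) by ring]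
          exact sub_mem h3 h2
        obtain ⟨z, hz, hzq⟩ := (Ideal.mem_map_iff_of_surjective q Ideal.Quotient.mk_surjective).mp h1
        have hd := Ideal.Quotient.eq.mp hzq.symm
        rw [show eval x P = z + (eval x P - z) by ring]
        exact add_mem hz (Ideal.pow_le_pow_right hn hd)
      have hpGn : p Gn = 0 := by rw [← hPG]; exact hQ x hx n P hP hmem
      have hzero : Gn = 0 := by
        have h1 : p (G - Gn) ∈ V ^ (n + 1) := by
          have h2 : V.map p.toRingHom ≤ V := by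
            rw [Ideal.map_span, Ideal.span_le]
            rintro _ ⟨_, ⟨s, rfl⟩, rfl⟩
            show p (X s) ∈ V
            rw [show p (X s) = _ from pr_X J f r s, ← pow_one V, mem_pow_idealOfVars_iff']
            intro d hd
            exact (linQ_isHomogeneous J _).coeff_eq_zero (by omega)
          have := Ideal.mem_map_of_mem p.toRingHom hrest
          rw [Ideal.map_pow] at this
          exact Ideal.pow_right_mono h2 _ this
        rw [map_sub, hpGn, sub_zero, show p G = G from pr_idem J hrf F] at h1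
        refine MvPolynomial.ext _ _ fun d => ?_
        rw [coeff_homogeneousComponent, coeff_zero]
        split_ifs with h
        · exact (mem_pow_idealOfVars_iff' (n + 1) G).mp h1 d (by omega)
        · rfl
      rw [hzero, sub_zero] at hrest
      exact hrest
  -- surjectivity
  have hsurj : Function.Surjective τ := by
    have step : ∀ m, ∀ z ∈ J ^ m, ∃ F, τ F ∈ (J.map q) ^ m ∧ τ F - q z ∈ (J ^ (m + 1)).map q := by
      have h1 : ∀ j ∈ J, ∃ F, τ F ∈ J.map q ∧ τ F - q j ∈ (J ^ 2).map q := by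
        intro j hj
        refine ⟨linQ J (f (J.toCotangent ⟨j, hj⟩)), ?_, ?_⟩
        · show τ₀ (p (linQ J _)) ∈ _
          rw [show p (linQ J _) = _ from pr_linQ J f r _, ← hy]
          exact Ideal.mem_map_of_mem q (Subtype.prop _)
        · show τ₀ (p (linQ J _)) - _ ∈ _
          rw [show p (linQ J _) = _ from pr_linQ J f r _, ← hy, ← map_sub]
          refine Ideal.mem_map_of_mem q ((Ideal.toCotangent_eq (x := y _) (y := ⟨j, hj⟩)).mp ?_)
          rw [hy', hrf, hrf]
      intro m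
      induction m with
      | zero =>
        intro z _
        refine ⟨C (Ideal.Quotient.mk J z), by simp, ?_⟩
        rw [hτC, zero_add, pow_one]
        obtain ⟨b, hb⟩ := Ideal.Quotient.mk_surjective (sec (Ideal.Quotient.mk J z))
        have := hsec (Ideal.Quotient.mk J z)
        rw [← hb, Ideal.Quotient.factor_mk, Ideal.Quotient.eq] at this
        rw [← hb, ← map_sub]
        exact Ideal.mem_map_of_mem q this
      | succ m ih =>
        intro z hz
        rw [pow_succ'] at hz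
        refine Submodule.mul_induction_on hz (fun a ha b hb => ?_) fun a b ⟨F, hF, hF'⟩ ⟨G, hG, hG'⟩ => ?_
        · obtain ⟨F, hF, hF'⟩ := h1 a ha
          obtain ⟨G, hG, hG'⟩ := ih b hb
          refine ⟨F * G, by rw [map_mul, pow_succ' (Ideal.map q J) m]; exact Ideal.mul_mem_mul hF hG, ?_⟩
          rw [map_mul τ, map_mul q, show τ F * τ G - q a * q b = τ F * (τ G - q b) + (τ F - q a) * q b by ring]
          refine add_mem ?_ ?_
          · rw [pow_succ' J (m + 1), Ideal.map_mul]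
            exact Ideal.mul_mem_mul hF hG'
          · rw [show J ^ (m + 1 + 1) = J ^ 2 * J ^ m by rw [← pow_add]; congr 1; omega, Ideal.map_mul]
            exact Ideal.mul_mem_mul hF' (Ideal.mem_map_of_mem q hb)
        · refine ⟨F + G, by rw [map_add]; exact add_mem hF hG, ?_⟩
          rw [map_add, map_add, add_sub_add_comm]
          exact add_mem hF' hG'
    intro z
    obtain ⟨b, rfl⟩ := Ideal.Quotient.mk_surjective z
    have H : ∀ m ≤ N + 1, ∃ F, ∃ e ∈ J ^ m, τ F + q e = q b := by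
      intro m hm
      induction m with
      | zero => exact ⟨0, b, by simp, by simp⟩
      | succ m ih =>
        obtain ⟨F, e, he, hFe⟩ := ih (by omega)
        obtain ⟨G, _, hG⟩ := step m e he
        obtain ⟨e', he', hee⟩ := (Ideal.mem_map_iff_of_surjective q Ideal.Quotient.mk_surjective).mp hG
        refine ⟨F + G, -e', neg_mem he', ?_⟩
        rw [map_add, map_neg, hee, ← hFe]; ring
    obtain ⟨F, e, he, hFe⟩ := H (N + 1) le_rfl
    exact ⟨F, by rw [← hFe, show q e = 0 from Ideal.Quotient.eq_zero_iff_mem.mpr he, add_zero]⟩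
  choose F hF using hsurj
  have huniq : ∀ G H, τ G = τ H → Ideal.Quotient.mk (V ^ (N + 1)) (p G) = Ideal.Quotient.mk (V ^ (N + 1)) (p H) :=
    fun G H h => by
      rw [Ideal.Quotient.eq, ← map_sub]
      exact hker _ (by rw [map_sub, h, sub_self])
  let m := (Ideal.Quotient.mkₐ A (V ^ (N + 1))).comp (p.restrictScalars A)
  let ρ : B →ₐ[A] MvPolynomial σ (B ⧸ J) ⧸ V ^ (N + 1) :=
    { toFun := fun b => m (F (q b))
      map_one' := by
        rw [← map_one m]; exact huniq _ _ (by rw [hF, map_one, map_one])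
      map_mul' := fun a b => by
        rw [← map_mul m]; exact huniq _ _ (by rw [hF, map_mul, map_mul, hF, hF])
      map_zero' := by
        rw [← map_zero m]; exact huniq _ _ (by rw [hF, map_zero, map_zero])
      map_add' := fun a b => by
        rw [← map_add m]; exact huniq _ _ (by rw [hF, map_add, map_add, hF, hF])
      commutes' := fun a => by
        rw [← m.commutes a]; exact huniq _ _ (by rw [hF, τ.commutes]; rfl) }
  exact ⟨τ, ρ, fun s => hτV (Ideal.mem_map_of_mem τ.toRingHom (Ideal.subset_span ⟨s, rfl⟩)),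
    fun b => ⟨p (F (q b)), rfl, (hττ _).trans (hF _)⟩⟩

end truncation

theorem isAdicFormallySmooth_of_projective_symGr [Algebra.FormallySmooth A (B ⧸ J)]
    [Module.Projective (B ⧸ J) J.Cotangent] (hS : PP16.SymGrBijective B J) :
    CAlgX.IsAdicFormallySmooth A B J := by
  intro E _ _ I hI ψ ⟨k, hk⟩
  obtain ⟨g, hg⟩ := (Module.projective_def (R := B ⧸ J) (P := J.Cotangent)).mp inferInstance
  let r : (J.Cotangent →₀ B ⧸ J) →ₗ[B] J.Cotangent :=
    (Finsupp.linearCombination (B ⧸ J) (_root_.id : J.Cotangent → J.Cotangent)).restrictScalars B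
  let f : J.Cotangent →ₗ[B] (J.Cotangent →₀ B ⧸ J) := g.restrictScalars B
  have hrf : ∀ y, r (f y) = y := hg
  obtain ⟨τ, ρ, hτ, hρ⟩ := exists_embedding (A := A) J hrf
    (fun x hx => (symGrBijective_iff_qreg J hrf x hx).mp hS) (2 * k + 1) (by omega)
  let q := Ideal.Quotient.mk (J ^ (2 * k + 1 + 1))
  have hψ : ∀ x ∈ J ^ (2 * k + 1 + 1), ψ x = 0 := fun x hx => hk x (Ideal.pow_le_pow_right (by omega) hx)
  let ψ' : B ⧸ J ^ (2 * k + 1 + 1) →ₐ[A] E ⧸ I := Ideal.Quotient.liftₐ _ ψ hψ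
  let φ : MvPolynomial J.Cotangent (B ⧸ J) →ₐ[A] E ⧸ I := ψ'.comp τ
  haveI := Algebra.FormallySmooth.comp A (B ⧸ J) (MvPolynomial J.Cotangent (B ⧸ J))
  obtain ⟨G, hG⟩ := Algebra.FormallySmooth.comp_surjective (R := A) (A := MvPolynomial J.Cotangent (B ⧸ J)) I hI φ
  let V := idealOfVars J.Cotangent (B ⧸ J)
  have hVI : (V ^ k).map G.toRingHom ≤ I := by
    refine Ideal.map_le_iff_le_comap.mpr fun P hP => ?_
    rw [Ideal.mem_comap, ← Ideal.Quotient.eq_zero_iff_mem]
    refine (DFunLike.congr_fun hG P).trans ?_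
    show ψ' (τ P) = 0
    have hτV : V.map τ.toRingHom ≤ J.map q := by
      rw [Ideal.map_span, Ideal.span_le]
      rintro _ ⟨_, ⟨s, rfl⟩, rfl⟩
      exact hτ s
    have h1 := Ideal.mem_map_of_mem τ.toRingHom hP
    rw [Ideal.map_pow] at h1
    have h2 := Ideal.pow_right_mono hτV k h1
    rw [← Ideal.map_pow] at h2
    obtain ⟨z, hz, hzq⟩ := (Ideal.mem_map_iff_of_surjective q Ideal.Quotient.mk_surjective).mp h2
    show ψ' (τ.toRingHom P) = 0
    rw [← hzq]
    exact hk z hz
  have hG0 : ∀ P ∈ V ^ (2 * k + 1 + 1), G P = 0 := fun P hP => by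
    have h1 : (V ^ (k * 2)).map G.toRingHom ≤ ⊥ := by
      rw [pow_mul, Ideal.map_pow, ← hI]
      exact Ideal.pow_right_mono hVI 2
    exact (Submodule.mem_bot _).mp (h1 (Ideal.mem_map_of_mem G.toRingHom (Ideal.pow_le_pow_right (by omega) hP)))
  refine ⟨(Ideal.Quotient.liftₐ _ G hG0).comp ρ, AlgHom.ext fun b => ?_⟩
  obtain ⟨F, hF, hF'⟩ := hρ b
  show Ideal.Quotient.mk I ((Ideal.Quotient.liftₐ _ G hG0) (ρ b)) = ψ b
  rw [hF]
  refine (DFunLike.congr_fun hG F).trans ?_
  show ψ' (τ F) = ψ b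
  rw [hF']
  rfl

theorem exists_hom_trivSqZero [Algebra.FormallySmooth A (B ⧸ J)] (h : CAlgX.IsAdicFormallySmooth A B J)
    (π : (σ →₀ B ⧸ J) →ₗ[B] J.Cotangent) (hπ : Function.Surjective π) :
    ∃ v : B →ₐ[A] TrivSqZeroExt (B ⧸ J) (σ →₀ B ⧸ J), (∀ b, (v b).fst = Ideal.Quotient.mk J b) ∧
      ∀ j : J, π (v (j : B)).snd = J.toCotangent j := by
  classical
  obtain ⟨sec, hsec⟩ := exists_section_mod (A := A) J 1
  let q := Ideal.Quotient.mk (J ^ (1 + 1))
  let i : J.Cotangent →ₗ[B] B ⧸ J ^ 2 := J.cotangentToQuotientSquare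
  have hi : ∀ j : J, i (J.toCotangent j) = q (j : B) := fun j => rfl
  have hii : ∀ z w, i z * i w = 0 := fun z w => by
    obtain ⟨a, rfl⟩ := J.toCotangent_surjective z
    obtain ⟨b, rfl⟩ := J.toCotangent_surjective w
    rw [hi, hi, ← map_mul, Ideal.Quotient.eq_zero_iff_mem, pow_two]
    exact Ideal.mul_mem_mul a.2 b.2
  have hsi : ∀ (c : B ⧸ J) (z : σ →₀ B ⧸ J), sec c * i (π z) = i (π (c • z)) := fun c z => by
    obtain ⟨b, hb⟩ := Ideal.Quotient.mk_surjective (sec c)
    have hc : c = Ideal.Quotient.mk J b := by rw [← hsec c, ← hb, Ideal.Quotient.factor_mk]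
    rw [show c • z = b • z by rw [hc, ← Ideal.Quotient.algebraMap_eq, algebraMap_smul], map_smul, map_smul,
      Algebra.smul_def, Ideal.Quotient.algebraMap_eq, hb]
  let j₀ : (σ →₀ B ⧸ J) →ₗ[B] B ⧸ J ^ 2 := i ∘ₗ π
  let φ : TrivSqZeroExt (B ⧸ J) (σ →₀ B ⧸ J) →ₐ[A] B ⧸ J ^ 2 :=
    { toFun := fun x => sec x.fst + j₀ x.snd
      map_one' := by simp
      map_mul' := fun x y => by
        simp only [TrivSqZeroExt.fst_mul, TrivSqZeroExt.snd_mul, map_mul, map_add, op_smul_eq_smul, j₀,
          LinearMap.comp_apply]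
        rw [← hsi, ← hsi]
        linear_combination -hii (π x.snd) (π y.snd)
      map_zero' := by simp
      map_add' := fun x y => by simp only [TrivSqZeroExt.fst_add, TrivSqZeroExt.snd_add, map_add]; abel
      commutes' := fun a => by
        show sec (algebraMap A (B ⧸ J) a) + j₀ 0 = _
        rw [map_zero, add_zero, sec.commutes] }
  have hfst : ∀ x, Ideal.Quotient.factor (Ideal.pow_le_self (two_ne_zero : (2 : ℕ) ≠ 0)) (φ x) = x.fst := fun x => by
    show Ideal.Quotient.factor _ (sec x.fst + i (π x.snd)) = _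
    obtain ⟨j, hj⟩ := J.toCotangent_surjective (π x.snd)
    rw [map_add, hsec, ← hj, hi]
    show x.fst + Ideal.Quotient.mk J (j : B) = _
    rw [Ideal.Quotient.eq_zero_iff_mem.mpr j.2, add_zero]
  have hφs : Function.Surjective φ := fun y => by
    obtain ⟨b, rfl⟩ := Ideal.Quotient.mk_surjective y
    obtain ⟨c, hc⟩ := Ideal.Quotient.mk_surjective (sec (Ideal.Quotient.mk J b))
    have hmem : b - c ∈ J := by
      have := hsec (Ideal.Quotient.mk J b)
      rw [← hc, Ideal.Quotient.factor_mk, Ideal.Quotient.eq] at this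
      rw [show b - c = -(c - b) by ring]
      exact neg_mem this
    obtain ⟨z, hz⟩ := hπ (J.toCotangent ⟨b - c, hmem⟩)
    refine ⟨TrivSqZeroExt.inl (Ideal.Quotient.mk J b) + TrivSqZeroExt.inr z, ?_⟩
    show sec _ + i (π _) = _
    simp only [TrivSqZeroExt.fst_add, TrivSqZeroExt.fst_inl, TrivSqZeroExt.fst_inr, add_zero,
      TrivSqZeroExt.snd_add, TrivSqZeroExt.snd_inl, TrivSqZeroExt.snd_inr, zero_add, hz, hi, ← hc]
    show q c + q (b - c) = q b
    rw [← map_add]; congr 1; ring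
  have hker : RingHom.ker φ ^ 2 = ⊥ := by
    rw [pow_two, eq_bot_iff, Ideal.mul_le]
    intro x hx y hy
    have hx0 : φ x = 0 := RingHom.mem_ker.mp hx
    have hy0 : φ y = 0 := RingHom.mem_ker.mp hy
    have hx1 : x.fst = 0 := by rw [← hfst x, hx0, map_zero]
    have hy1 : y.fst = 0 := by rw [← hfst y, hy0, map_zero]
    rw [Ideal.mem_bot]
    exact TrivSqZeroExt.ext (by simp [hx1]) (by simp [hx1, hy1])
  let e := Ideal.quotientKerAlgEquivOfSurjective hφs
  obtain ⟨v, hv⟩ := h _ (RingHom.ker φ) hker (e.symm.toAlgHom.comp (Ideal.Quotient.mkₐ A (J ^ 2)))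
    ⟨2, fun x hx => by
      show e.symm (Ideal.Quotient.mk (J ^ 2) x) = 0
      rw [Ideal.Quotient.eq_zero_iff_mem.mpr hx, map_zero]⟩
  have hφv : ∀ b, φ (v b) = Ideal.Quotient.mk (J ^ 2) b := fun b => by
    have h1 := congrArg e (DFunLike.congr_fun hv b)
    simp only [AlgHom.comp_apply, AlgEquiv.coe_toAlgHom, AlgEquiv.apply_symm_apply] at h1
    exact h1
  have hf : ∀ b, (v b).fst = Ideal.Quotient.mk J b := fun b => by
    rw [← hfst, hφv, Ideal.Quotient.factor_mk]
  refine ⟨v, hf, fun j => J.cotangentToQuotientSquare_injective ?_⟩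
  have h1 : sec (v (j : B)).fst + i (π (v (j : B)).snd) = Ideal.Quotient.mk (J ^ 2) (j : B) := hφv j
  rw [hf, Ideal.Quotient.eq_zero_iff_mem.mpr j.2, map_zero, zero_add] at h1
  exact h1

theorem projective_cotangent_of_isAdicFormallySmooth [Algebra.FormallySmooth A (B ⧸ J)]
    (h : CAlgX.IsAdicFormallySmooth A B J) : Module.Projective (B ⧸ J) J.Cotangent := by
  let π := (Finsupp.linearCombination (B ⧸ J) (_root_.id : J.Cotangent → J.Cotangent))
  have hπ : Function.Surjective π := fun z => ⟨Finsupp.single z 1, by simp [π]⟩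
  obtain ⟨v, hv1, hv2⟩ := exists_hom_trivSqZero J h (π.restrictScalars B) hπ
  let g₀ : J →ₗ[B] (J.Cotangent →₀ B ⧸ J) :=
    { toFun := fun j => (v (j : B)).snd
      map_add' := fun a b => by rw [Submodule.coe_add, map_add, TrivSqZeroExt.snd_add]
      map_smul' := fun b j => by
        rw [Submodule.coe_smul, smul_eq_mul, map_mul, TrivSqZeroExt.snd_mul, hv1, hv1,
          Ideal.Quotient.eq_zero_iff_mem.mpr j.2, op_smul_eq_smul, zero_smul, add_zero, RingHom.id_apply,
          ← Ideal.Quotient.algebraMap_eq, algebraMap_smul] }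
  have hg₀ : (J • ⊤ : Submodule B J) ≤ LinearMap.ker g₀ := Submodule.smul_le.mpr fun b hb j _ => by
    rw [LinearMap.mem_ker, map_smul, ← algebraMap_smul (B ⧸ J) b, Ideal.Quotient.algebraMap_eq,
      Ideal.Quotient.eq_zero_iff_mem.mpr hb, zero_smul]
  let g : J.Cotangent →ₗ[B] (J.Cotangent →₀ B ⧸ J) := Submodule.liftQ _ g₀ hg₀
  refine Module.Projective.of_split (g.extendScalarsOfSurjective Ideal.Quotient.mk_surjective) π (LinearMap.ext fun z => ?_)
  obtain ⟨j, rfl⟩ := J.toCotangent_surjective z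
  exact hv2 j

/-- Two evaluations of homogeneous polynomials that agree to first order agree one step further. -/
theorem sub_mem_pow_succ {R Q : Type u} [CommRing R] [CommRing Q] {τ : Type u} (W : Ideal Q)
    (Φ Ψ : MvPolynomial τ R →+* Q) (hC : ∀ c, Φ (C c) - Ψ (C c) ∈ W) (hX : ∀ s, Φ (X s) - Ψ (X s) ∈ W ^ 2)
    (hΦ : ∀ s, Φ (X s) ∈ W) (hΨ : ∀ s, Ψ (X s) ∈ W) {n : ℕ} {P : MvPolynomial τ R} (hP : P.IsHomogeneous n) :
    Φ P - Ψ P ∈ W ^ (n + 1) := by
  classical
  have hcard : Fintype.card (ULift.{u} (Fin n)) = n := by simp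
  refine isHomogeneous_induction (ι := ULift.{u} (Fin n)) (p := fun P => Φ P - Ψ P ∈ W ^ (n + 1))
    (by rw [hcard]; exact hP) (by simp)
    (fun a b ha hb => by simp only [map_add, add_sub_add_comm]; exact add_mem ha hb) fun c w => ?_
  have hprod : (∏ i, Φ (X (w i))) - ∏ i, Ψ (X (w i)) ∈ W ^ (n + 1) := by
    have := prod_sub_prod_mem W _ _ (fun i => hΦ (w i)) (fun i => hΨ (w i)) (fun i => hX (w i)) Finset.univ
    rwa [Finset.card_univ, hcard] at this
  have hWn : ∏ i, Φ (X (w i)) ∈ W ^ n := by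
    have := Ideal.prod_mem_prod (s := Finset.univ) (I := fun _ => W) fun i _ => hΦ (w i)
    rwa [Finset.prod_const, Finset.card_univ, hcard] at this
  rw [MvPolynomial.smul_eq_C_mul, map_mul, map_mul, map_prod, map_prod,
    show Φ (C c) * (∏ i, Φ (X (w i))) - Ψ (C c) * ∏ i, Ψ (X (w i)) =
      (Φ (C c) - Ψ (C c)) * ∏ i, Φ (X (w i)) + Ψ (C c) * ((∏ i, Φ (X (w i))) - ∏ i, Ψ (X (w i))) by ring]
  refine add_mem ?_ (Ideal.mul_mem_left _ _ hprod)
  rw [pow_succ']
  exact Ideal.mul_mem_mul (hC c) hWn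

/-- Successive lifts along the truncations of a ring. -/
theorem exists_tower (h : CAlgX.IsAdicFormallySmooth A B J) {T : Type u} [CommRing T] [Algebra A T] (V : Ideal T)
    (θ₁ : B →ₐ[A] T ⧸ V ^ 2) (hJ : ∀ j ∈ J, θ₁ j ∈ V.map (Ideal.Quotient.mk (V ^ 2))) (N : ℕ) :
    ∃ θ : B →ₐ[A] T ⧸ V ^ (N + 2),
      ∀ b, Ideal.Quotient.factor (Ideal.pow_le_pow_right (show 2 ≤ N + 2 by omega)) (θ b) = θ₁ b := by
  induction N with
  | zero => exact ⟨θ₁, fun b => by
      obtain ⟨y, hy⟩ := Ideal.Quotient.mk_surjective (θ₁ b)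
      rw [← hy]; rfl⟩
  | succ N ih =>
    obtain ⟨θ, hθ⟩ := ih
    have hle : V ^ (N + 1 + 2) ≤ V ^ (N + 2) := Ideal.pow_le_pow_right (by omega)
    let π : T ⧸ V ^ (N + 1 + 2) →ₐ[A] T ⧸ V ^ (N + 2) := Ideal.Quotient.factorₐ A hle
    have hπs : Function.Surjective π := Ideal.Quotient.factor_surjective hle
    have hker : RingHom.ker π ^ 2 = ⊥ := by
      rw [show RingHom.ker π = (V ^ (N + 2)).map (Ideal.Quotient.mk (V ^ (N + 1 + 2))) from Ideal.Quotient.factor_ker hle]
      refine eq_bot_iff.mpr (((Ideal.map_pow _ _ _).symm).le.trans ?_)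
      rw [le_bot_iff, Ideal.map_eq_bot_iff_le_ker, Ideal.mk_ker, ← pow_mul]
      exact Ideal.pow_le_pow_right (by omega)
    let e := Ideal.quotientKerAlgEquivOfSurjective hπs
    have hθJ : J.map θ.toRingHom ≤ V.map (Ideal.Quotient.mk (V ^ (N + 2))) := by
      refine Ideal.map_le_iff_le_comap.mpr fun j hj => ?_
      rw [Ideal.mem_comap]
      obtain ⟨y, hy⟩ := Ideal.Quotient.mk_surjective (θ j)
      show θ j ∈ _
      rw [← hy]
      refine Ideal.mem_map_of_mem _ ?_
      have h1 := hJ j hj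
      rw [← hθ j, ← hy, Ideal.Quotient.factor_mk] at h1
      obtain ⟨z, hz, hzy⟩ := (Ideal.mem_map_iff_of_surjective _ Ideal.Quotient.mk_surjective).mp h1
      simpa using add_mem (Ideal.pow_le_self two_ne_zero (Ideal.Quotient.eq.mp hzy.symm)) hz
    obtain ⟨θ', hθ'⟩ := h _ (RingHom.ker π) hker (e.symm.toAlgHom.comp θ) ⟨N + 2, fun z hz => by
      have h1 := Ideal.mem_map_of_mem θ.toRingHom hz
      rw [Ideal.map_pow] at h1
      have h2 := Ideal.pow_right_mono hθJ (N + 2) h1
      rw [← Ideal.map_pow, Ideal.map_quotient_self, Ideal.mem_bot] at h2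
      show e.symm (θ z) = 0
      rw [show θ z = 0 from h2, map_zero]⟩
    refine ⟨θ', fun b => ?_⟩
    have h1 := congrArg e (DFunLike.congr_fun hθ' b)
    simp only [AlgHom.comp_apply, AlgEquiv.coe_toAlgHom, AlgEquiv.apply_symm_apply] at h1
    rw [← hθ b, ← h1]
    obtain ⟨y, hy⟩ := Ideal.Quotient.mk_surjective (θ' b)
    rw [← hy]
    show _ = Ideal.Quotient.factor _ (Ideal.Quotient.factor hle (Ideal.Quotient.mk _ y))
    rw [Ideal.Quotient.factor_mk, Ideal.Quotient.factor_mk, Ideal.Quotient.factor_mk]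

theorem qreg_core {T : Type u} [CommRing T] (V : Ideal T) (n : ℕ) (Λ : MvPolynomial σ B →+* T) (x : σ → B)
    (hxJ : ∀ s, x s ∈ J) (θ : B →+* T ⧸ V ^ (n + 2)) (y : B → T) (hy : ∀ b, Ideal.Quotient.mk _ (y b) = θ b)
    (hyJ : ∀ b ∈ J, y b ∈ V) (hC : ∀ c, y c - Λ (C c) ∈ V) (hX : ∀ s, y (x s) - Λ (X s) ∈ V ^ 2)
    (hΛX : ∀ s, Λ (X s) ∈ V) {P : MvPolynomial σ B} (hP : P.IsHomogeneous n)
    (hmem : eval x P ∈ J ^ (n + 1)) : Λ P ∈ V ^ (n + 1) := by
  let q := Ideal.Quotient.mk (V ^ (n + 2))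
  let W := V.map q
  have hW2 : ∀ z ∈ V ^ 2, q z ∈ W ^ 2 := fun z hz => (Ideal.map_pow q V 2) ▸ Ideal.mem_map_of_mem q hz
  have hdiff := sub_mem_pow_succ W (θ.comp (eval x)) (q.comp Λ) (fun c => ?_) (fun s => ?_) (fun s => ?_) (fun s => ?_) hP
  rotate_left
  · rw [RingHom.comp_apply, RingHom.comp_apply, eval_C, ← hy, ← map_sub]
    exact Ideal.mem_map_of_mem q (hC c)
  · rw [RingHom.comp_apply, RingHom.comp_apply, eval_X, ← hy, ← map_sub]
    exact hW2 _ (hX s)
  · rw [RingHom.comp_apply, eval_X, ← hy]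
    exact Ideal.mem_map_of_mem q (hyJ _ (hxJ s))
  · exact Ideal.mem_map_of_mem q (hΛX s)
  have hθP : θ (eval x P) ∈ W ^ (n + 1) := by
    have h1 := Ideal.mem_map_of_mem θ hmem
    rw [Ideal.map_pow] at h1
    refine Ideal.pow_right_mono (Ideal.map_le_iff_le_comap.mpr fun b hb => ?_) _ h1
    rw [Ideal.mem_comap, ← hy b]
    exact Ideal.mem_map_of_mem q (hyJ b hb)
  have hfin : q (Λ P) ∈ (V ^ (n + 1)).map q := by
    rw [Ideal.map_pow q V (n + 1)]
    simpa using sub_mem hθP hdiff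
  obtain ⟨z, hz, hzq⟩ := (Ideal.mem_map_iff_of_surjective q Ideal.Quotient.mk_surjective).mp hfin
  have h1 := Ideal.pow_le_pow_right (show n + 1 ≤ n + 2 by omega) (Ideal.Quotient.eq.mp hzq.symm)
  simpa using add_mem h1 hz

theorem qreg_of_isAdicFormallySmooth [Algebra.FormallySmooth A (B ⧸ J)] (h : CAlgX.IsAdicFormallySmooth A B J)
    (hrf : ∀ y, r (f y) = y) (x : σ → B) (hx : ∀ s, ∃ h : x s ∈ J, J.toCotangent ⟨x s, h⟩ = r (Finsupp.single s 1)) :
    QReg J f r x := by
  classical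
  obtain ⟨v, hv1, hv2⟩ := exists_hom_trivSqZero J h r fun z => ⟨f z, hrf z⟩
  let V := idealOfVars σ (B ⧸ J)
  let L : (σ →₀ B ⧸ J) →ₗ[B] MvPolynomial σ (B ⧸ J) := linQ J ∘ₗ f ∘ₗ r
  have hLV : ∀ a, L a ∈ V := fun a => by
    rw [← pow_one V, mem_pow_idealOfVars_iff']
    exact fun d hd => (linQ_isHomogeneous J _).coeff_eq_zero (by omega)
  have hLC : ∀ (c : B ⧸ J) a, L (c • a) = C c * L a := fun c a => by
    obtain ⟨b, rfl⟩ := Ideal.Quotient.mk_surjective c
    rw [← Ideal.Quotient.algebraMap_eq, algebraMap_smul, map_smul, Algebra.smul_def,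
      IsScalarTower.algebraMap_apply B (B ⧸ J) (MvPolynomial σ (B ⧸ J)), MvPolynomial.algebraMap_eq]
  let θ₁ : B →ₐ[A] MvPolynomial σ (B ⧸ J) ⧸ V ^ 2 :=
    ({ toFun := fun z => Ideal.Quotient.mk (V ^ 2) (C z.fst + L z.snd)
       map_one' := by simp
       map_mul' := fun z w => by
        simp only [TrivSqZeroExt.fst_mul, TrivSqZeroExt.snd_mul, op_smul_eq_smul, map_add L, hLC, map_mul C,
          ← map_mul (Ideal.Quotient.mk (V ^ 2)), Ideal.Quotient.eq]
        rw [show C z.fst * C w.fst + (C z.fst * L w.snd + C w.fst * L z.snd) - (C z.fst + L z.snd) * (C w.fst + L w.snd)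
          = -(L z.snd * L w.snd) by ring, pow_two]
        exact neg_mem (Ideal.mul_mem_mul (hLV _) (hLV _))
       map_zero' := by simp
       map_add' := fun z w => by
        rw [← map_add]; congr 1
        simp only [TrivSqZeroExt.fst_add, TrivSqZeroExt.snd_add, map_add]; ring
       commutes' := fun a => by
        show Ideal.Quotient.mk _ (C (algebraMap A (B ⧸ J) a) + L 0) = _
        rw [map_zero, add_zero]
        rfl } : TrivSqZeroExt (B ⧸ J) (σ →₀ B ⧸ J) →ₐ[A] MvPolynomial σ (B ⧸ J) ⧸ V ^ 2).comp v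
  have hθ₁J : ∀ j ∈ J, θ₁ j ∈ V.map (Ideal.Quotient.mk (V ^ 2)) := fun j hj => by
    show Ideal.Quotient.mk (V ^ 2) (C (v j).fst + L (v j).snd) ∈ _
    rw [hv1, Ideal.Quotient.eq_zero_iff_mem.mpr hj, map_zero, zero_add]
    exact Ideal.mem_map_of_mem _ (hLV _)
  intro n P hP hmem
  obtain ⟨θ, hθ⟩ := exists_tower J h V θ₁ hθ₁J n
  choose y hy using fun b => Ideal.Quotient.mk_surjective (θ b)
  have hθy : ∀ b, y b - (C (Ideal.Quotient.mk J b) + L (v b).snd) ∈ V ^ 2 := fun b => by
    have h1 := hθ b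
    rw [← hy, Ideal.Quotient.factor_mk] at h1
    have h2 : y b - (C (v b).fst + L (v b).snd) ∈ V ^ 2 := Ideal.Quotient.eq.mp h1
    rwa [hv1] at h2
  have hzV := qreg_core J V n ((pr J f r).toRingHom.comp (MvPolynomial.map (Ideal.Quotient.mk J))) x
    (fun s => (hx s).1) θ.toRingHom y hy
    (fun b hb => by
      have h1 := hθy b
      rw [Ideal.Quotient.eq_zero_iff_mem.mpr hb, map_zero, zero_add] at h1
      simpa using add_mem (Ideal.pow_le_self two_ne_zero h1) (hLV (v b).snd))
    (fun c => by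
      show y c - pr J f r (MvPolynomial.map (Ideal.Quotient.mk J) (C c)) ∈ V
      rw [map_C, show pr J f r (C (Ideal.Quotient.mk J c)) = C (Ideal.Quotient.mk J c) from (pr J f r).commutes _]
      have h1 := hθy c
      rw [← sub_sub] at h1
      simpa using add_mem (Ideal.pow_le_self two_ne_zero h1) (hLV (v c).snd))
    (fun s => by
      obtain ⟨hs, hs'⟩ := hx s
      show y (x s) - pr J f r (MvPolynomial.map (Ideal.Quotient.mk J) (X s)) ∈ V ^ 2
      rw [map_X]
      have h1 := hθy (x s)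
      rw [Ideal.Quotient.eq_zero_iff_mem.mpr hs, map_zero, zero_add,
        show L (v (x s)).snd = linQ J (f (r (v (x s)).snd)) from rfl, hv2 ⟨x s, hs⟩, hs', ← pr_X] at h1
      exact h1)
    (fun s => by
      show pr J f r (MvPolynomial.map (Ideal.Quotient.mk J) (X s)) ∈ V
      rw [map_X, pr_X, ← pow_one V, mem_pow_idealOfVars_iff']
      exact fun d hd => (linQ_isHomogeneous J _).coeff_eq_zero (by omega))
    hP hmem
  have hhom := pr_isHomogeneous J f r (hP.map (Ideal.Quotient.mk J))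
  refine MvPolynomial.ext _ _ fun d => ?_
  rw [coeff_zero]
  by_cases hd : d.degree = n
  · exact (mem_pow_idealOfVars_iff' _ _).mp hzV d (by omega)
  · exact hhom.coeff_eq_zero hd

theorem symGrBijective_of_isAdicFormallySmooth [Algebra.FormallySmooth A (B ⧸ J)]
    (h : CAlgX.IsAdicFormallySmooth A B J) : PP16.SymGrBijective B J := by
  haveI := projective_cotangent_of_isAdicFormallySmooth J h
  obtain ⟨g, hg⟩ := (Module.projective_def (R := B ⧸ J) (P := J.Cotangent)).mp inferInstance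
  let r : (J.Cotangent →₀ B ⧸ J) →ₗ[B] J.Cotangent :=
    (Finsupp.linearCombination (B ⧸ J) (_root_.id : J.Cotangent → J.Cotangent)).restrictScalars B
  let f : J.Cotangent →ₗ[B] (J.Cotangent →₀ B ⧸ J) := g.restrictScalars B
  have hrf : ∀ y, r (f y) = y := hg
  obtain ⟨x, hx⟩ := exists_lifts J r
  exact (symGrBijective_iff_qreg J hrf x hx).mpr (qreg_of_isAdicFormallySmooth J h hrf x hx)

end Groth.Agent.EGA41SymGr
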