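/-
Adic formal smoothness over an intermediate ring, through extensions of derivations.
-/
import Groth.Agent.EGA41SymGr.Smooth
import Groth.Agent.EGA41FS.Rel
import Groth.Agent.EGA41FS.SmallStep
import Groth.Agent.EGA41FS.Projective

set_option autoImplicit false

universe u v

open TensorProduct

namespace Groth.Agent.EGA41SymGr

variable (Λ : Type v) (A : Type u) {B : Type u} [CommRing Λ] [CommRing A] [CommRing B] [Algebra Λ A] [Algebra A B]
  [Algebra Λ B] [IsScalarTower Λ A B]

/-- Derivations of `A` into modules killed by the ideal extend to `B`. -/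
def Extends (𝔞 : Ideal B) : Prop :=
  ∀ (I : Type u) [AddCommGroup I] [Module B I] [Module A I] [IsScalarTower A B I] [Module Λ I] [IsScalarTower Λ B I],
    (∀ b ∈ 𝔞, ∀ x : I, b • x = 0) → ∀ D : Derivation Λ A I,
      ∃ D' : Derivation Λ B I, ∀ a, D' (algebraMap A B a) = D a

variable {Λ A}

theorem Extends.of_tower {Λ₀ : Type*} [CommRing Λ₀] [Algebra Λ₀ Λ] [Algebra Λ₀ A] [Algebra Λ₀ B]
    [IsScalarTower Λ₀ Λ A] [IsScalarTower Λ₀ Λ B] [IsScalarTower Λ₀ A B] {𝔞 : Ideal B} (h : Extends Λ₀ A 𝔞) :
    Extends Λ A 𝔞 := by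
  intro I _ _ _ _ _ _ hI D
  letI : Module Λ₀ I := Module.compHom I (algebraMap Λ₀ Λ)
  haveI : IsScalarTower Λ₀ Λ I := IsScalarTower.of_algebraMap_smul fun r x => rfl
  haveI : IsScalarTower Λ₀ B I := IsScalarTower.of_algebraMap_smul fun r x => by
    rw [IsScalarTower.algebraMap_apply Λ₀ Λ B, algebraMap_smul]
    rfl
  haveI : IsScalarTower Λ₀ A I := IsScalarTower.of_algebraMap_smul fun r x => by
    rw [← algebraMap_smul B (algebraMap Λ₀ A r) x, ← IsScalarTower.algebraMap_apply, algebraMap_smul]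
  obtain ⟨D', hD'⟩ := h I hI (D.restrictScalars Λ₀)
  have key : ∀ (c : Λ) (b : B), D' (c • b) = c • D' b := fun c b => by
    have h0 : D' (algebraMap Λ B c) = 0 := by
      rw [IsScalarTower.algebraMap_apply Λ A B]
      exact (hD' _).trans (D.map_algebraMap c)
    rw [Algebra.smul_def, D'.leibniz, h0, smul_zero, add_zero, algebraMap_smul]
  let L : B →ₗ[Λ] I :=
    { toFun := fun b => D' b
      map_add' := fun a b => map_add D' a b
      map_smul' := key }
  exact ⟨Derivation.mk' L fun a b => D'.leibniz a b, hD'⟩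

theorem derivation_of_hom {T I : Type u} [CommRing T] [AddCommGroup I] [Algebra Λ T] [Algebra B T]
    [IsScalarTower Λ B T] [Module T I] [Module Tᵐᵒᵖ I] [IsCentralScalar T I] [Module Λ I] [IsScalarTower Λ T I]
    [IsScalarTower Λ Tᵐᵒᵖ I] [Module B I] [IsScalarTower B T I] [IsScalarTower Λ B I]
    (v : B →ₐ[Λ] TrivSqZeroExt T I) (hv : ∀ b, (v b).fst = algebraMap B T b) :
    ∃ D : Derivation Λ B I, ∀ b, D b = (v b).snd := by
  let L : B →ₗ[Λ] I :=
    { toFun := fun b => (v b).snd
      map_add' := fun a b => by simp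
      map_smul' := fun c b => by simp }
  refine ⟨Derivation.mk' L fun a b => ?_, fun b => rfl⟩
  show (v (a * b)).snd = a • (v b).snd + b • (v a).snd
  rw [map_mul, TrivSqZeroExt.snd_mul, hv, hv, op_smul_eq_smul, algebraMap_smul, algebraMap_smul]

theorem extends_step {J : Ideal B} {Λ : Type u} [CommRing Λ] [Algebra Λ A] [Algebra Λ B] [IsScalarTower Λ A B]
    (hΛ : CAlgX.IsAdicFormallySmooth Λ B J) (h1 : Extends Λ A J) :
    ∀ k, Extends Λ A (J ^ k) := by
  intro k
  induction k with
  | zero =>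
    intro I _ _ _ _ _ _ hI D
    refine ⟨0, fun a => ?_⟩
    have := hI 1 (by simp) (D a)
    rw [one_smul] at this
    rw [Derivation.zero_apply, this]
  | succ k ih =>
    rcases Nat.eq_zero_or_pos k with rfl | hk
    · simpa using h1
    intro I _ _ _ _ _ _ hI D
    let S : Submodule B I := (J ^ k) • (⊤ : Submodule B I)
    have hS : ∀ b ∈ J, ∀ x : S, b • x = 0 := fun b hb x => Subtype.ext <| by
      show b • (x : I) = 0
      have hle : J • S ≤ ⊥ := by
        rw [← Submodule.mul_smul, ← pow_succ']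
        exact Submodule.smul_le.mpr fun c hc y _ => (Submodule.mem_bot B).mpr (hI c hc y)
      exact (Submodule.mem_bot B).mp (hle (Submodule.smul_mem_smul hb x.2))
    have hQ : ∀ b ∈ J ^ k, ∀ x : I ⧸ S, b • x = 0 := fun b hb x => by
      obtain ⟨x, rfl⟩ := Submodule.Quotient.mk_surjective S x
      rw [← Submodule.Quotient.mk_smul, Submodule.Quotient.mk_eq_zero]
      exact Submodule.smul_mem_smul hb Submodule.mem_top
    haveI : IsScalarTower Λ A I := IsScalarTower.of_algebraMap_smul fun r x => by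
      rw [← algebraMap_smul B (algebraMap Λ A r) x, ← IsScalarTower.algebraMap_apply, algebraMap_smul]
    obtain ⟨D₀, hD₀⟩ := ih (I ⧸ S) hQ ((S.mkQ.restrictScalars A).compDer D)
    let J' := J ^ (k + 1)
    letI : Module (B ⧸ J') I := Module.IsTorsionBySet.module (I := J') fun x b => hI b.1 b.2 x
    haveI : IsScalarTower B (B ⧸ J') I := Module.IsTorsionBySet.isScalarTower (fun x b => hI b.1 b.2 x)
    haveI : IsScalarTower Λ (B ⧸ J') I := IsScalarTower.of_algebraMap_smul fun r x => by
      rw [IsScalarTower.algebraMap_apply Λ B (B ⧸ J'), algebraMap_smul (B ⧸ J') (algebraMap Λ B r) x, algebraMap_smul]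
    letI : Module (B ⧸ J')ᵐᵒᵖ I := Module.compHom I ((RingHom.id _).fromOpposite fun x y => mul_comm x y)
    haveI : IsCentralScalar (B ⧸ J') I := ⟨fun _ _ => rfl⟩
    haveI : IsScalarTower Λ (B ⧸ J')ᵐᵒᵖ I := ⟨fun r c x => by
      show (r • c.unop) • x = r • c.unop • x
      exact smul_assoc _ _ _⟩
    have hQ' : ∀ b ∈ J', ∀ x : I ⧸ S, b • x = 0 := fun b hb x => hQ b (Ideal.pow_le_pow_right (Nat.le_succ k) hb) x
    letI : Module (B ⧸ J') (I ⧸ S) := Module.IsTorsionBySet.module (I := J') fun x b => hQ' b.1 b.2 x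
    haveI : IsScalarTower B (B ⧸ J') (I ⧸ S) := Module.IsTorsionBySet.isScalarTower (fun x b => hQ' b.1 b.2 x)
    haveI : IsScalarTower Λ (B ⧸ J') (I ⧸ S) := IsScalarTower.of_algebraMap_smul fun r x => by
      rw [IsScalarTower.algebraMap_apply Λ B (B ⧸ J'), algebraMap_smul (B ⧸ J') (algebraMap Λ B r) x, algebraMap_smul]
    letI : Module (B ⧸ J')ᵐᵒᵖ (I ⧸ S) := Module.compHom _ ((RingHom.id _).fromOpposite fun x y => mul_comm x y)
    haveI : IsCentralScalar (B ⧸ J') (I ⧸ S) := ⟨fun _ _ => rfl⟩
    haveI : IsScalarTower Λ (B ⧸ J')ᵐᵒᵖ (I ⧸ S) := ⟨fun r c x => by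
      show (r • c.unop) • x = r • c.unop • x
      exact smul_assoc _ _ _⟩
    let π : TrivSqZeroExt (B ⧸ J') I →ₐ[Λ] TrivSqZeroExt (B ⧸ J') (I ⧸ S) :=
      { toFun := fun z => TrivSqZeroExt.inl z.fst + TrivSqZeroExt.inr (S.mkQ z.snd)
        map_one' := TrivSqZeroExt.ext (by simp) (by simp)
        map_mul' := fun z w => by
          obtain ⟨c, hc⟩ := Ideal.Quotient.mk_surjective z.fst
          obtain ⟨d, hd⟩ := Ideal.Quotient.mk_surjective w.fst
          refine TrivSqZeroExt.ext (by simp) ?_
          simp only [TrivSqZeroExt.snd_mul, TrivSqZeroExt.fst_add, TrivSqZeroExt.fst_inl, TrivSqZeroExt.fst_inr,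
            TrivSqZeroExt.snd_add, TrivSqZeroExt.snd_inl, TrivSqZeroExt.snd_inr, add_zero, zero_add, op_smul_eq_smul,
            map_add, ← hc, ← hd, ← Ideal.Quotient.algebraMap_eq, algebraMap_smul, map_smul]
        map_zero' := TrivSqZeroExt.ext (by simp) (by simp)
        map_add' := fun z w => TrivSqZeroExt.ext (by simp) (by simp)
        commutes' := fun r => TrivSqZeroExt.ext (by simp [TrivSqZeroExt.algebraMap_eq_inl'])
          (by simp [TrivSqZeroExt.algebraMap_eq_inl']) }
    have hπs : Function.Surjective π := fun z => by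
      obtain ⟨x, hx⟩ := S.mkQ_surjective z.snd
      exact ⟨TrivSqZeroExt.inl z.fst + TrivSqZeroExt.inr x, TrivSqZeroExt.ext (by simp [π]) (by simp [π, ← hx])⟩
    have hker : RingHom.ker π ^ 2 = ⊥ := by
      rw [pow_two, eq_bot_iff, Ideal.mul_le]
      intro x hx y hy
      have hx1 : x.fst = 0 := by
        have := congrArg TrivSqZeroExt.fst (RingHom.mem_ker.mp hx)
        simpa [π] using this
      have hy1 : y.fst = 0 := by
        have := congrArg TrivSqZeroExt.fst (RingHom.mem_ker.mp hy)
        simpa [π] using this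
      rw [Ideal.mem_bot]
      exact TrivSqZeroExt.ext (by simp [hx1]) (by simp [hx1, hy1])
    let w : B →ₐ[Λ] TrivSqZeroExt (B ⧸ J') (I ⧸ S) :=
      { toFun := fun b => TrivSqZeroExt.inl (Ideal.Quotient.mk J' b) + TrivSqZeroExt.inr (D₀ b)
        map_one' := TrivSqZeroExt.ext (by simp) (by simp)
        map_mul' := fun a b => by
          refine TrivSqZeroExt.ext (by simp) ?_
          simp only [TrivSqZeroExt.snd_mul, TrivSqZeroExt.fst_add, TrivSqZeroExt.fst_inl, TrivSqZeroExt.fst_inr,
            TrivSqZeroExt.snd_add, TrivSqZeroExt.snd_inl, TrivSqZeroExt.snd_inr, add_zero, zero_add, op_smul_eq_smul,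
            ← Ideal.Quotient.algebraMap_eq, algebraMap_smul, Derivation.leibniz]
        map_zero' := TrivSqZeroExt.ext (by simp) (by simp)
        map_add' := fun a b => TrivSqZeroExt.ext (by simp) (by simp)
        commutes' := fun r => TrivSqZeroExt.ext
          (by simp [TrivSqZeroExt.algebraMap_eq_inl', ← Ideal.Quotient.algebraMap_eq, ← IsScalarTower.algebraMap_apply])
          (by simp [TrivSqZeroExt.algebraMap_eq_inl']) }
    let e := Ideal.quotientKerAlgEquivOfSurjective hπs
    obtain ⟨v, hv⟩ := hΛ _ (RingHom.ker π) hker (e.symm.toAlgHom.comp w) ⟨(k + 1) * 2, fun z hz => by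
      have hwJ : (J ^ (k + 1)).map w.toRingHom ≤ RingHom.ker (TrivSqZeroExt.fstHom Λ (B ⧸ J') (I ⧸ S)) := by
        refine Ideal.map_le_iff_le_comap.mpr fun b hb => ?_
        show (TrivSqZeroExt.inl (Ideal.Quotient.mk J' b) + TrivSqZeroExt.inr (D₀ b)).fst = 0
        rw [TrivSqZeroExt.fst_add, TrivSqZeroExt.fst_inl, TrivSqZeroExt.fst_inr, add_zero]
        exact Ideal.Quotient.eq_zero_iff_mem.mpr hb
      have h2 := Ideal.mem_map_of_mem w.toRingHom hz
      rw [pow_mul, Ideal.map_pow] at h2
      have h3 := Ideal.pow_right_mono hwJ 2 h2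
      have h4 : RingHom.ker (TrivSqZeroExt.fstHom Λ (B ⧸ J') (I ⧸ S)) ^ 2 = ⊥ := by
        rw [pow_two, eq_bot_iff, Ideal.mul_le]
        intro x hx y hy
        have hx1 : x.fst = 0 := RingHom.mem_ker.mp hx
        have hy1 : y.fst = 0 := RingHom.mem_ker.mp hy
        rw [Ideal.mem_bot]
        exact TrivSqZeroExt.ext (by simp [hx1]) (by simp [hx1, hy1])
      rw [h4, Ideal.mem_bot] at h3
      show e.symm (w z) = 0
      rw [show w z = 0 from h3, map_zero]⟩
    have hπv : ∀ b, π (v b) = w b := fun b => by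
      have h2 := congrArg e (DFunLike.congr_fun hv b)
      simp only [AlgHom.comp_apply, AlgEquiv.coe_toAlgHom, AlgEquiv.apply_symm_apply] at h2
      exact h2
    have hfst : ∀ b, (v b).fst = algebraMap B (B ⧸ J') b := fun b => by
      have := congrArg TrivSqZeroExt.fst (hπv b)
      simpa [π, w] using this
    have hsnd : ∀ b, S.mkQ (v b).snd = D₀ b := fun b => by
      have := congrArg TrivSqZeroExt.snd (hπv b)
      simpa [π, w] using this
    obtain ⟨D₁, hD₁⟩ := derivation_of_hom v hfst
    let Δ : Derivation Λ A I := D - D₁.compAlgebraMap A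
    have hΔ : ∀ a, Δ a ∈ S := fun a => by
      rw [← Submodule.Quotient.mk_eq_zero, ← Submodule.mkQ_apply]
      show S.mkQ (D a - D₁ (algebraMap A B a)) = 0
      rw [map_sub, hD₁, hsnd, hD₀]
      exact sub_self _
    let Δ' : Derivation Λ A S := Derivation.mk'
      { toFun := fun a => ⟨Δ a, hΔ a⟩
        map_add' := fun a b => Subtype.ext (map_add Δ a b)
        map_smul' := fun r a => Subtype.ext (Δ.map_smul r a) } fun a b => Subtype.ext (Δ.leibniz a b)
    obtain ⟨D₂, hD₂⟩ := h1 S hS Δ'
    refine ⟨D₁ + (S.subtype).compDer D₂, fun a => ?_⟩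
    show D₁ (algebraMap A B a) + (D₂ (algebraMap A B a) : I) = D a
    rw [hD₂]
    show D₁ (algebraMap A B a) + (D a - D₁ (algebraMap A B a)) = D a
    abel

theorem isAdicFormallySmooth_of_extends {Λ : Type u} [CommRing Λ] [Algebra Λ A] [Algebra Λ B] [IsScalarTower Λ A B]
    {J : Ideal B} (hΛ : CAlgX.IsAdicFormallySmooth Λ B J) (h1 : Extends Λ A J) :
    CAlgX.IsAdicFormallySmooth A B J := by
  intro E _ _ I hI ψ ⟨k, hk⟩
  letI : Algebra Λ E := ((algebraMap A E).comp (algebraMap Λ A)).toAlgebra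
  haveI : IsScalarTower Λ A E := IsScalarTower.of_algebraMap_eq fun _ => rfl
  obtain ⟨v, hv⟩ := hΛ E I hI (ψ.restrictScalars Λ) ⟨k, hk⟩
  have hv' : ∀ b, Ideal.Quotient.mk I (v b) = ψ b := fun b => DFunLike.congr_fun hv b
  let M := Groth.Agent.EGA41FS.Twist I
  have hII : ∀ p ∈ I, ∀ q ∈ I, p * q = 0 := fun p hp q hq => by
    have := Ideal.mul_mem_mul hp hq
    rwa [← pow_two, hI, Ideal.mem_bot] at this
  letI : Module B M := Module.compHom M v.toRingHom
  letI : Module A M := Module.compHom M (algebraMap A E)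
  letI : Module Λ M := Module.compHom M (algebraMap Λ E)
  have hsub : ∀ a, algebraMap A E a - v (algebraMap A B a) ∈ I := fun a => by
    rw [← Ideal.Quotient.eq, hv', AlgHom.commutes]
    rfl
  have val_B : ∀ (b : B) (x : M), Groth.Agent.EGA41FS.Twist.val (b • x) = v b * Groth.Agent.EGA41FS.Twist.val x :=
    fun b x => rfl
  have val_A : ∀ (a : A) (x : M),
      Groth.Agent.EGA41FS.Twist.val (a • x) = algebraMap A E a * Groth.Agent.EGA41FS.Twist.val x :=
    fun a x => rfl
  have val_inj := Groth.Agent.EGA41FS.Twist.val_injective (J := I)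
  haveI : IsScalarTower A B M := IsScalarTower.of_algebraMap_smul fun a x => val_inj <| by
    rw [val_B, val_A]
    exact (sub_eq_zero.mp ((sub_mul _ _ _).symm.trans (hII _ (hsub a) _ (Groth.Agent.EGA41FS.Twist.val_mem x)))).symm
  haveI : IsScalarTower Λ B M := IsScalarTower.of_algebraMap_smul fun r x => val_inj <| by
    rw [val_B, v.commutes]; rfl
  have hkill : ∀ b ∈ J ^ k, ∀ x : M, b • x = 0 := fun b hb x => val_inj <| by
    rw [val_B, map_zero]
    refine hII _ ?_ _ (Groth.Agent.EGA41FS.Twist.val_mem x)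
    rw [← Ideal.Quotient.eq_zero_iff_mem, hv']
    exact hk b hb
  have hmem : ∀ a, v (algebraMap A B a) - algebraMap A E a ∈ I := fun a => by
    rw [← neg_sub]; exact neg_mem (hsub a)
  let D : Derivation Λ A M := Derivation.mk'
    { toFun := fun a => Groth.Agent.EGA41FS.Twist.mk _ (hmem a)
      map_add' := fun a b => val_inj <| by simp only [map_add, Groth.Agent.EGA41FS.Twist.val_mk]; ring
      map_smul' := fun r a => val_inj <| by
        show v (algebraMap A B (r • a)) - algebraMap A E (r • a) =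
          algebraMap Λ E r * (v (algebraMap A B a) - algebraMap A E a)
        rw [Algebra.smul_def, map_mul, map_mul, map_mul, ← IsScalarTower.algebraMap_apply Λ A B,
          ← IsScalarTower.algebraMap_apply Λ A E, v.commutes]
        ring }
    fun a b => val_inj <| by
      show v (algebraMap A B (a * b)) - algebraMap A E (a * b) =
        Groth.Agent.EGA41FS.Twist.val (_ + _)
      rw [map_add]
      show _ = algebraMap A E a * (v (algebraMap A B b) - algebraMap A E b) +
        algebraMap A E b * (v (algebraMap A B a) - algebraMap A E a)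
      rw [map_mul, map_mul, map_mul]
      linear_combination hII _ (hmem a) _ (hmem b)
  obtain ⟨D', hD'⟩ := extends_step hΛ h1 k M hkill D
  let g : B → E := fun b => v b - Groth.Agent.EGA41FS.Twist.val (D' b)
  refine ⟨{ toFun := g
            map_one' := by simp [g]
            map_mul' := fun a b => by
              simp only [g, D'.leibniz, map_add, map_mul, val_B]
              linear_combination -hII _ (Groth.Agent.EGA41FS.Twist.val_mem (D' a)) _
                (Groth.Agent.EGA41FS.Twist.val_mem (D' b))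
            map_zero' := by simp [g]
            map_add' := fun a b => by simp only [g, map_add]; ring
            commutes' := fun a => by
              simp only [g, hD']
              show v (algebraMap A B a) - (v (algebraMap A B a) - algebraMap A E a) = algebraMap A E a
              ring }, AlgHom.ext fun b => ?_⟩
  show Ideal.Quotient.mk I (v b - Groth.Agent.EGA41FS.Twist.val (D' b)) = ψ b
  rw [map_sub, hv', Ideal.Quotient.eq_zero_iff_mem.mpr (Groth.Agent.EGA41FS.Twist.val_mem _), sub_zero]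

theorem extends_of_injective {J : Ideal B}
    (hinj : Function.Injective ((KaehlerDifferential.mapBaseChange Λ A B).lTensor (B ⧸ J)))
    [Module.Projective (B ⧸ J) ((B ⧸ J) ⊗[B] Ω[B⁄A])] : Extends Λ A J := by
  intro I _ _ _ _ _ _ hI D
  let C := B ⧸ J
  let u := (KaehlerDifferential.mapBaseChange Λ A B).baseChange C
  let p := (KaehlerDifferential.map Λ A B B).baseChange C
  have hp : Function.Surjective p := LinearMap.lTensor_surjective C (KaehlerDifferential.map_surjective Λ A B)
  have hexact : Function.Exact u p :=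
    lTensor_exact C (KaehlerDifferential.exact_mapBaseChange_map Λ A B) (KaehlerDifferential.map_surjective Λ A B)
  obtain ⟨sec, hsec⟩ := Module.projective_lifting_property p LinearMap.id hp
  let P : C ⊗[B] Ω[B⁄Λ] →ₗ[C] C ⊗[B] Ω[B⁄Λ] := LinearMap.id - sec ∘ₗ p
  have hP : ∀ z, P z ∈ LinearMap.range u := fun z => by
    refine (hexact _).mp ?_
    show p (z - sec (p z)) = 0
    rw [map_sub, show p (sec (p z)) = p z from LinearMap.congr_fun hsec (p z), sub_self]
  let g := (LinearEquiv.ofInjective u hinj).symm.toLinearMap ∘ₗ P.codRestrict (LinearMap.range u) hP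
  have hgu : ∀ z, g (u z) = z := fun z => by
    apply (LinearEquiv.ofInjective u hinj).injective
    simp only [g, LinearMap.comp_apply, LinearEquiv.coe_coe, LinearEquiv.apply_symm_apply]
    refine Subtype.ext ?_
    show u z - sec (p (u z)) = u z
    rw [hexact.apply_apply_eq_zero, map_zero, sub_zero]
  letI : Module C I := Module.IsTorsionBySet.module (I := J) fun x b => hI b.1 b.2 x
  haveI : IsScalarTower B C I := Module.IsTorsionBySet.isScalarTower (fun x b => hI b.1 b.2 x)
  haveI : IsScalarTower Λ A I := IsScalarTower.of_algebraMap_smul fun r x => by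
    rw [← algebraMap_smul B (algebraMap Λ A r) x, ← IsScalarTower.algebraMap_apply, algebraMap_smul]
  let d : B ⊗[A] Ω[A⁄Λ] →ₗ[B] I := D.liftKaehlerDifferential.liftBaseChange B
  let dC : C ⊗[B] (B ⊗[A] Ω[A⁄Λ]) →ₗ[C] I := d.liftBaseChange C
  let l : Ω[B⁄Λ] →ₗ[B] I := (dC ∘ₗ g).restrictScalars B ∘ₗ TensorProduct.mk B C Ω[B⁄Λ] 1
  refine ⟨l.compDer (KaehlerDifferential.D Λ B), fun a => ?_⟩
  show dC (g ((1 : C) ⊗ₜ[B] KaehlerDifferential.D Λ B (algebraMap A B a))) = D a
  have h1 : (1 : C) ⊗ₜ[B] KaehlerDifferential.D Λ B (algebraMap A B a) =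
      u ((1 : C) ⊗ₜ[B] ((1 : B) ⊗ₜ[A] KaehlerDifferential.D Λ A a)) := by
    simp [u]
  rw [h1, hgu]
  simp [dC, d]

theorem injective_of_isAdicFormallySmooth {J : Ideal B} (h : CAlgX.IsAdicFormallySmooth A B J) :
    Function.Injective ((KaehlerDifferential.mapBaseChange Λ A B).lTensor (B ⧸ J)) := by
  let I := (B ⧸ J) ⊗[B] (B ⊗[A] Ω[A⁄Λ])
  let D : Derivation Λ A I :=
    ((TensorProduct.mk B (B ⧸ J) (B ⊗[A] Ω[A⁄Λ]) 1).restrictScalars A ∘ₗ TensorProduct.mk A B Ω[A⁄Λ] 1).compDer
      (KaehlerDifferential.D Λ A)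
  letI : Algebra A (TrivSqZeroExt (B ⧸ J) I) := (RingHom.mk' (⟨⟨fun a => TrivSqZeroExt.inl (algebraMap A (B ⧸ J) a) +
      TrivSqZeroExt.inr (D a), TrivSqZeroExt.ext (by simp) (by simp)⟩, fun a b => by
        refine TrivSqZeroExt.ext (by simp) ?_
        simp only [TrivSqZeroExt.snd_mul, TrivSqZeroExt.fst_add, TrivSqZeroExt.fst_inl, TrivSqZeroExt.fst_inr,
          TrivSqZeroExt.snd_add, TrivSqZeroExt.snd_inl, TrivSqZeroExt.snd_inr, add_zero, zero_add, op_smul_eq_smul,
          Derivation.leibniz, algebraMap_smul]⟩ : A →* TrivSqZeroExt (B ⧸ J) I)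
      (fun a b => TrivSqZeroExt.ext (by simp) (by simp; abel))).toAlgebra
  let π : TrivSqZeroExt (B ⧸ J) I →ₐ[A] (B ⧸ J) :=
    { (TrivSqZeroExt.fstHom (B ⧸ J) (B ⧸ J) I).toRingHom with
      commutes' := fun a => by
        show (TrivSqZeroExt.inl (algebraMap A (B ⧸ J) a) + TrivSqZeroExt.inr (D a) : TrivSqZeroExt (B ⧸ J) I).fst = _
        simp }
  have hπs : Function.Surjective π := fun c => ⟨TrivSqZeroExt.inl c, rfl⟩
  have hker : RingHom.ker π ^ 2 = ⊥ := by
    rw [pow_two, eq_bot_iff, Ideal.mul_le]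
    intro x hx y hy
    have hx1 : x.fst = 0 := RingHom.mem_ker.mp hx
    have hy1 : y.fst = 0 := RingHom.mem_ker.mp hy
    rw [Ideal.mem_bot]
    exact TrivSqZeroExt.ext (by simp [hx1]) (by simp [hx1, hy1])
  let e := Ideal.quotientKerAlgEquivOfSurjective hπs
  obtain ⟨v, hv⟩ := h _ (RingHom.ker π) hker (e.symm.toAlgHom.comp (Ideal.Quotient.mkₐ A J)) ⟨1, fun x hx => by
    rw [pow_one] at hx
    show e.symm (Ideal.Quotient.mk J x) = 0
    rw [Ideal.Quotient.eq_zero_iff_mem.mpr hx, map_zero]⟩
  have hfst : ∀ b, (v b).fst = algebraMap B (B ⧸ J) b := fun b => by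
    have h1 := congrArg e (DFunLike.congr_fun hv b)
    simp only [AlgHom.comp_apply, AlgEquiv.coe_toAlgHom, AlgEquiv.apply_symm_apply] at h1
    exact h1
  have hva : ∀ a, (v (algebraMap A B a)).snd = D a := fun a => by
    rw [v.commutes]
    show (TrivSqZeroExt.inl (algebraMap A (B ⧸ J) a) + TrivSqZeroExt.inr (D a) : TrivSqZeroExt (B ⧸ J) I).snd = D a
    simp
  have hleib : ∀ a b, (v (a * b)).snd = a • (v b).snd + b • (v a).snd := fun a b => by
    rw [map_mul, TrivSqZeroExt.snd_mul, hfst, hfst, op_smul_eq_smul, algebraMap_smul, algebraMap_smul]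
  let D' : Derivation Λ B I := Derivation.mk'
    { toFun := fun b => (v b).snd
      map_add' := fun a b => by simp
      map_smul' := fun r b => by
        rw [Algebra.smul_def, hleib, IsScalarTower.algebraMap_apply Λ A B, hva, D.map_algebraMap, smul_zero, add_zero,
          ← IsScalarTower.algebraMap_apply Λ A B, algebraMap_smul]
        rfl } hleib
  let l := D'.liftKaehlerDifferential.liftBaseChange (B ⧸ J)
  have hl : l ∘ₗ (KaehlerDifferential.mapBaseChange Λ A B).baseChange (B ⧸ J) = LinearMap.id := by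
    refine TensorProduct.AlgebraTensorModule.ext fun c m => ?_
    induction m using TensorProduct.induction_on with
    | zero => simp
    | add x y hx hy => simp only [TensorProduct.tmul_add, map_add, hx, hy]
    | tmul b ω =>
      have hω : ω ∈ Submodule.span A (Set.range (KaehlerDifferential.D Λ A)) := by
        rw [KaehlerDifferential.span_range_derivation]; trivial
      induction hω using Submodule.span_induction generalizing b with
      | zero => simp
      | add x y _ _ hx hy => simp only [TensorProduct.tmul_add, map_add, hx, hy]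
      | mem x hx =>
        obtain ⟨a, rfl⟩ := hx
        simp only [l, LinearMap.comp_apply, LinearMap.baseChange_tmul, KaehlerDifferential.mapBaseChange_tmul,
          LinearMap.liftBaseChange_tmul, KaehlerDifferential.map_D, map_smul,
          Derivation.liftKaehlerDifferential_comp_D, LinearMap.id_apply]
        show c • b • (v (algebraMap A B a)).snd = c ⊗ₜ[B] (b ⊗ₜ[A] KaehlerDifferential.D Λ A a)
        rw [hva]
        show c • b • ((1 : (B ⧸ J)) ⊗ₜ[B] ((1 : B) ⊗ₜ[A] KaehlerDifferential.D Λ A a)) = _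
        rw [← TensorProduct.tmul_smul, TensorProduct.smul_tmul', TensorProduct.smul_tmul', smul_eq_mul, mul_one,
          smul_eq_mul, mul_one]
      | smul s x _ hx =>
        rw [← TensorProduct.smul_tmul]
        exact hx (s • b)
  exact fun x y (hxy : (KaehlerDifferential.mapBaseChange Λ A B).baseChange (B ⧸ J) x =
      (KaehlerDifferential.mapBaseChange Λ A B).baseChange (B ⧸ J) y) => by
    have := congrArg l hxy
    rwa [show l ((KaehlerDifferential.mapBaseChange Λ A B).baseChange (B ⧸ J) x) = x from LinearMap.congr_fun hl x,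
      show l ((KaehlerDifferential.mapBaseChange Λ A B).baseChange (B ⧸ J) y) = y from LinearMap.congr_fun hl y] at this

theorem isAdicFormallySmooth_trans {Λ : Type u} [CommRing Λ] [Algebra Λ A] [Algebra Λ B] [IsScalarTower Λ A B]
    [Algebra.FormallySmooth Λ A] {J : Ideal B} (h : CAlgX.IsAdicFormallySmooth A B J) :
    CAlgX.IsAdicFormallySmooth Λ B J := by
  intro E _ _ I hI u hu
  let v₀ : A →ₐ[Λ] E := Algebra.FormallySmooth.lift I ⟨2, hI⟩ (u.comp (IsScalarTower.toAlgHom Λ A B))
  have hv₀ : ∀ a, Ideal.Quotient.mk I (v₀ a) = u (algebraMap A B a) := fun a =>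
    Algebra.FormallySmooth.mk_lift I ⟨2, hI⟩ (u.comp (IsScalarTower.toAlgHom Λ A B)) a
  letI : Algebra A E := v₀.toRingHom.toAlgebra
  let uA : B →ₐ[A] E ⧸ I := { u.toRingHom with commutes' := fun a => (hv₀ a).symm }
  obtain ⟨v, hv⟩ := h E I hI uA hu
  refine ⟨{ v.toRingHom with commutes' := fun r => ?_ }, AlgHom.ext fun x => DFunLike.congr_fun hv x⟩
  show v (algebraMap Λ B r) = algebraMap Λ E r
  rw [IsScalarTower.algebraMap_apply Λ A B, AlgHom.commutes]
  exact v₀.commutes r

theorem projective_kaehler_of_isAdicFormallySmooth {J : Ideal B} (h : CAlgX.IsAdicFormallySmooth A B J) :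
    Module.Projective (B ⧸ J) ((B ⧸ J) ⊗[B] Ω[B⁄A]) :=
  Groth.Agent.EGA41FS.projective_of_formallySmoothAdic (⊥ : Ideal A) J ⟨1, by simp⟩
    (Groth.Agent.EGA41FS.isFormallySmoothAdic_of_small ⊥ J fun C _ _ I hI _ _ u hu => h C I hI u hu) J ⟨1, by simp⟩

end Groth.Agent.EGA41SymGr
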