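/-
Formally smooth local algebras with prescribed residue field.
-/
import Groth.Agent.EGA41SymGr.Tower
import Groth.Agent.EGA41Adic.Field
import Groth.Agent.EGA41Adic.SepField
import Groth.Agent.EGA41Cohen.Basic
import Groth.Agent.ASFam.Local
import Groth.Agent.ArtObs.Models

set_option autoImplicit false

universe u

open TensorProduct IsLocalRing MvPowerSeries

namespace Groth.Agent.EGA41SymGr.Model

theorem isAdicComplete_sq {R : Type u} [CommRing R] (J : Ideal R) [IsAdicComplete J R] :
    IsAdicComplete (J ^ 2) R := by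
  have hle : ∀ n, (J ^ 2) ^ n • (⊤ : Submodule R R) ≤ J ^ n • ⊤ := fun n => by
    refine Submodule.smul_mono ?_ le_rfl
    rw [← pow_mul]
    exact Ideal.pow_le_pow_right (by omega)
  haveI : IsHausdorff (J ^ 2) R := ⟨fun x hx => IsHausdorff.haus (I := J) inferInstance x fun n =>
    SModEq.mono (hle n) (hx n)⟩
  haveI : IsPrecomplete (J ^ 2) R := ⟨fun f hf => by
    obtain ⟨L, hL⟩ := IsPrecomplete.prec (I := J) (M := R) inferInstance (f := fun n => f n)
      fun {m n} hmn => SModEq.mono (hle m) (hf hmn)
    refine ⟨L, fun n => ?_⟩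
    have h1 : f n ≡ f (2 * n) [SMOD ((J ^ 2) ^ n • ⊤ : Submodule R R)] := hf (by omega)
    refine h1.trans ?_
    rw [← pow_mul]
    exact hL (2 * n)⟩
  exact {}

variable {k K : Type u} [Field k] [Field K] [Algebra k K]

/-- A local algebra formally smooth over `k` with residue field `K` forces a finite imperfection module. -/
theorem finite_imperfection (A : Type u) [CommRing A] [IsLocalRing A] [IsNoetherianRing A] [Algebra k A]
    (h : CAlgX.IsAdicFormallySmooth k A (maximalIdeal A)) :
    Module.Finite (ResidueField A) (EGA41.imperfection ℤ k (ResidueField A)) := by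
  let L := ResidueField A
  have hinj := injective_of_isAdicFormallySmooth (Λ := ℤ) h
  let u := (KaehlerDifferential.mapBaseChange ℤ k A).baseChange L
  let θ := TensorProduct.AlgebraTensorModule.cancelBaseChange k A L L (Ω[k⁄ℤ])
  let w : L ⊗[k] Ω[k⁄ℤ] →ₗ[L] L ⊗[A] Ω[A⁄ℤ] := u ∘ₗ θ.symm.toLinearMap
  have hw : Function.Injective w := (show Function.Injective u from hinj).comp θ.symm.injective
  let p : L ⊗[A] Ω[A⁄ℤ] →ₗ[L] Ω[L⁄ℤ] := KaehlerDifferential.mapBaseChange ℤ A L
  have hpw : p ∘ₗ w = KaehlerDifferential.mapBaseChange ℤ k L := by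
    refine ((Module.Free.chooseBasis k (Ω[k⁄ℤ])).baseChange L).ext fun i => ?_
    simp only [Module.Basis.baseChange_apply, LinearMap.comp_apply, LinearEquiv.coe_coe]
    rw [KaehlerDifferential.mapBaseChange_tmul, one_smul,
      show w ((1 : L) ⊗ₜ[k] Module.Free.chooseBasis k (Ω[k⁄ℤ]) i) =
        (1 : L) ⊗ₜ[A] KaehlerDifferential.map ℤ ℤ k A (Module.Free.chooseBasis k (Ω[k⁄ℤ]) i) by simp [w, u, θ]]
    show p _ = _
    rw [KaehlerDifferential.mapBaseChange_tmul, one_smul]
    have hω : Module.Free.chooseBasis k (Ω[k⁄ℤ]) i ∈ Submodule.span k (Set.range (KaehlerDifferential.D ℤ k)) := by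
      rw [KaehlerDifferential.span_range_derivation]; trivial
    generalize Module.Free.chooseBasis k (Ω[k⁄ℤ]) i = ω at hω ⊢
    induction hω using Submodule.span_induction with
    | mem x hx =>
      obtain ⟨a, rfl⟩ := hx
      simp only [KaehlerDifferential.map_D, ← IsScalarTower.algebraMap_apply]
    | zero => simp
    | add x y _ _ hx hy => simp only [map_add, hx, hy]
    | smul c x _ hx =>
      rw [map_smul (KaehlerDifferential.map ℤ ℤ k A), map_smul (KaehlerDifferential.map ℤ ℤ k L),
        ← algebraMap_smul A c (KaehlerDifferential.map ℤ ℤ k A x), map_smul, hx, algebraMap_smul]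
  let c := KaehlerDifferential.kerCotangentToTensor ℤ A L
  haveI : Module.Finite A (RingHom.ker (algebraMap A L)).Cotangent :=
    Module.Finite.of_surjective _ (Ideal.toCotangent_surjective _)
  haveI : Module.Finite A (LinearMap.range c) := Module.Finite.range c
  let S : Submodule L (L ⊗[A] Ω[A⁄ℤ]) := LinearMap.ker p
  have hS : (S : Set (L ⊗[A] Ω[A⁄ℤ])) = Set.range c := by
    ext x
    exact (KaehlerDifferential.exact_kerCotangentToTensor_mapBaseChange ℤ A L Ideal.Quotient.mk_surjective) x
  haveI : Module.Finite L S := by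
    obtain ⟨s, hs⟩ := (Module.Finite.iff_fg.mp (inferInstance : Module.Finite A (LinearMap.range c)))
    refine Module.Finite.iff_fg.mpr ⟨s, le_antisymm (Submodule.span_le.mpr fun x hx => ?_) fun x hx => ?_⟩
    · rw [SetLike.mem_coe, ← SetLike.mem_coe, hS]
      exact (hs.le (Submodule.subset_span hx) : x ∈ LinearMap.range c)
    · have h1 : x ∈ Submodule.span A (s : Set (L ⊗[A] Ω[A⁄ℤ])) := hs.ge (by
        rw [← SetLike.mem_coe, hS] at hx; exact hx)
      exact Submodule.span_le_restrictScalars A L _ h1
  let f : EGA41.imperfection ℤ k L →ₗ[L] S := (w ∘ₗ (EGA41.imperfection ℤ k L).subtype).codRestrict S fun z => by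
    show p (w z.1) = 0
    rw [← LinearMap.comp_apply, hpw]
    exact z.2
  haveI : IsNoetherian L S := isNoetherian_of_isNoetherianRing_of_finite L S
  exact Module.Finite.of_injective f fun a b hab => Subtype.ext (hw (congrArg Subtype.val hab))

theorem mem_maximalIdeal_iff {n : ℕ} {L : Type u} [Field L] (x : MvPowerSeries (Fin n) L) :
    x ∈ maximalIdeal (MvPowerSeries (Fin n) L) ↔ constantCoeff x = 0 := by
  rw [IsLocalRing.mem_maximalIdeal, mem_nonunits_iff, MvPowerSeries.isUnit_iff_constantCoeff, isUnit_iff_ne_zero, not_not]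

theorem ringKrullDim_eq {n : ℕ} (L : Type u) [Field L] : ringKrullDim (MvPowerSeries (Fin n) L) = n := by
  refine le_antisymm ?_ (Groth.Agent.ArtObs.dim_ps_ge L n)
  rw [← IsRegularLocalRing.spanFinrank_maximalIdeal, ← ArtPow.span_X_eq_maximalIdeal]
  refine Nat.cast_le.2 ((Submodule.spanFinrank_span_le_ncard_of_finite (Set.finite_range _)).trans ?_)
  rw [← Set.image_univ]
  exact (Set.ncard_image_le Set.finite_univ).trans (by simp)

/-- Existence of complete formally smooth local algebras with residue field `K` in all large dimensions. -/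
theorem exists_model [Module.Finite K (EGA41.imperfection ℤ k K)] (n : ℕ)
    (hn : Module.finrank K (EGA41.imperfection ℤ k K) ≤ n) :
    ∃ (A : Type u) (_ : CommRing A) (_ : IsLocalRing A) (_ : IsNoetherianRing A) (_ : Algebra k A),
      IsAdicComplete (maximalIdeal A) A ∧ CAlgX.IsAdicFormallySmooth k A (maximalIdeal A) ∧
        Nonempty (ResidueField A ≃ₐ[k] K) ∧ ringKrullDim A = n := by
  classical
  let F := (⊥ : Subfield k)
  let Υ := EGA41.imperfection ℤ k K
  obtain ⟨ρ, hρ⟩ := LinearMap.exists_leftInverse_of_injective (V := Υ) (V' := K ⊗[k] Ω[k⁄ℤ]) (K := K) (Submodule.subtype Υ) (Submodule.ker_subtype _)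
  haveI : Module.Free K Υ := @Module.Free.of_divisionRing K Υ _ (Submodule.addCommGroup Υ) _
  let b := Module.finBasis K Υ
  let e : Fin (Module.finrank K Υ) ↪ Fin n := Fin.castLEEmb hn
  let ext : (Fin (Module.finrank K Υ) → K) →ₗ[K] (Fin n → K) := Function.ExtendByZero.linearMap K e
  let φ : K ⊗[k] Ω[k⁄ℤ] →ₗ[K] (Fin n → K) := ext ∘ₗ b.equivFun.toLinearMap ∘ₗ ρ
  have hφ : ∀ z ∈ Υ, φ z = 0 → z = 0 := by
    intro z hz h0
    have h1 : ρ z = ⟨z, hz⟩ := LinearMap.congr_fun hρ ⟨z, hz⟩
    have hext : Function.Injective ext := fun x y hxy => funext fun i => by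
      have := congrFun hxy (e i)
      simpa [ext, Function.ExtendByZero.linearMap, e.injective.extend_apply] using this
    have h2 : b.equivFun (ρ z) = 0 := hext (h0.trans (map_zero ext).symm)
    rw [h1, LinearEquiv.map_eq_zero_iff] at h2
    exact congrArg Subtype.val h2
  let δ : k → Fin n → K := fun a => φ ((1 : K) ⊗ₜ[k] KaehlerDifferential.D ℤ k a)
  have hδmul : ∀ a c i, δ (a * c) i = algebraMap k K a * δ c i + algebraMap k K c * δ a i := by
    intro a c i
    show φ _ i = _
    rw [Derivation.leibniz, TensorProduct.tmul_add, map_add, TensorProduct.tmul_smul, TensorProduct.tmul_smul,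
      ← algebraMap_smul K a ((1 : K) ⊗ₜ[k] KaehlerDifferential.D ℤ k c),
      ← algebraMap_smul K c ((1 : K) ⊗ₜ[k] KaehlerDifferential.D ℤ k a), map_smul, map_smul]
    rfl
  have hδadd : ∀ a c i, δ (a + c) i = δ a i + δ c i := fun a c i => by
    show φ _ i = _
    rw [map_add, TensorProduct.tmul_add, map_add]
    rfl
  have hδF : ∀ (r : F) i, δ (algebraMap F k r) i = 0 := fun r i => by
    haveI := Groth.Agent.EGA41Adic.subsingleton_kaehler_bot k
    have h1 : KaehlerDifferential.D ℤ k (algebraMap F k r) = 0 := by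
      rw [← KaehlerDifferential.map_D ℤ ℤ F k r, Subsingleton.elim (KaehlerDifferential.D ℤ F r) 0, map_zero]
    show φ _ i = 0
    rw [h1, TensorProduct.tmul_zero, map_zero]
    rfl
  let P := MvPowerSeries (Fin n) K
  let m := maximalIdeal P
  haveI : IsAdicComplete m P := Groth.Agent.ArtObs.isAdicComplete_ps K n
  haveI : IsAdicComplete (m ^ 2) P := isAdicComplete_sq m
  have hXm : ∀ i, (X i : P) ∈ m := fun i => ArtPow.span_X_eq_maximalIdeal (k := K).le (Ideal.subset_span ⟨i, rfl⟩)
  let s : k → P := fun a => C (algebraMap k K a) + ∑ i, C (δ a i) * X i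
  have hsm : ∀ a, ∑ i, C (δ a i) * X i ∈ m := fun a => sum_mem fun i _ => Ideal.mul_mem_left _ _ (hXm i)
  let u : k →ₐ[F] P ⧸ m ^ 2 :=
    { toFun := fun a => Ideal.Quotient.mk (m ^ 2) (s a)
      map_one' := by
        have h0 : ∀ i, δ 1 i = 0 := fun i => by
          have := hδmul 1 1 i
          rw [mul_one, map_one, one_mul] at this
          exact left_eq_add.mp this
        simp [s, h0]
      map_mul' := fun a c => by
        rw [← map_mul, Ideal.Quotient.eq]
        have h1 : s (a * c) = C (algebraMap k K a) * C (algebraMap k K c) +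
            (C (algebraMap k K a) * (∑ i, C (δ c i) * X i) + C (algebraMap k K c) * ∑ i, C (δ a i) * X i) := by
          simp only [s, hδmul, map_add, map_mul, add_mul, Finset.sum_add_distrib, Finset.mul_sum, mul_assoc]
        rw [h1, show ∀ x y z w : P, x * z + (x * w + z * y) - (x + y) * (z + w) = -(y * w) by intros; ring, pow_two]
        exact neg_mem (Ideal.mul_mem_mul (hsm a) (hsm c))
      map_zero' := by
        have h0 : ∀ i, δ 0 i = 0 := fun i => by
          have := hδadd 0 0 i
          rw [add_zero] at this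
          exact left_eq_add.mp this
        simp [s, h0]
      map_add' := fun a c => by
        rw [← map_add]; congr 1
        simp only [s, hδadd, map_add, add_mul, Finset.sum_add_distrib]
        abel
      commutes' := fun r => by
        show Ideal.Quotient.mk _ (C (algebraMap k K (algebraMap F k r)) + ∑ i, C (δ (algebraMap F k r) i) * X i) = _
        simp only [hδF, map_zero, zero_mul, Finset.sum_const_zero, add_zero, ← IsScalarTower.algebraMap_apply F k K]
        show _ = Ideal.Quotient.mk (m ^ 2) (algebraMap F P r)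
        rw [MvPowerSeries.algebraMap_apply] }
  haveI : Algebra.FormallySmooth F k := Groth.Agent.FSField.formallySmooth_of_perfectField _ _
  haveI : Algebra.FormallySmooth F K := Groth.Agent.FSField.formallySmooth_of_perfectField _ _
  obtain ⟨j, hj⟩ := Groth.Agent.EGA41Cohen.exists_lift_formallySmooth (m ^ 2) u
  have hj' : ∀ a, j a - s a ∈ m ^ 2 := fun a => Ideal.Quotient.eq.mp (DFunLike.congr_fun hj a)
  let algF : Algebra F P := inferInstance
  have hFP : @CAlgX.IsAdicFormallySmooth F _ P _ algF m :=
    Groth.Agent.EGA41Adic.isAdicFormallySmooth_mvPowerSeries F K n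
  letI algP : Algebra k P := j.toRingHom.toAlgebra
  have halg : (inferInstance : Algebra F P) = algF := Algebra.algebra_ext _ _ fun r => by
    first | rfl | exact j.commutes r | (show j.toRingHom _ = _; exact j.commutes r)
  haveI : @IsScalarTower ℤ k P Algebra.toSMul Algebra.toSMul Algebra.toSMul :=
    IsScalarTower.of_algebraMap_eq fun r => by simp
  have hc0 : ∀ a, constantCoeff (j a) = algebraMap k K a := fun a => by
    have h1 : constantCoeff (j a - s a) = 0 :=
      (mem_maximalIdeal_iff _).mp (Ideal.pow_le_self two_ne_zero (hj' a))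
    rw [map_sub, sub_eq_zero] at h1
    rw [h1]
    simp [s]
  let e0 : ResidueField P →+* K := Ideal.Quotient.lift m (constantCoeff) fun x hx => (mem_maximalIdeal_iff x).mp hx
  have he0 : Function.Bijective e0 := ⟨RingHom.injective e0, fun c => ⟨residue P (C c), by
    exact (Ideal.Quotient.lift_mk _ _ _).trans (constantCoeff_C c)⟩⟩
  let eres : ResidueField P ≃ₐ[k] K := AlgEquiv.ofRingEquiv (f := RingEquiv.ofBijective e0 he0) fun a => hc0 a
  refine ⟨P, inferInstance, inferInstance, inferInstance, algP, inferInstance, ?_, ⟨eres⟩,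
    ringKrullDim_eq K⟩
  haveI : Algebra.FormallySmooth F (P ⧸ m) := by
    letI : Field (P ⧸ m) := Ideal.Quotient.field m
    exact Groth.Agent.FSField.formallySmooth_of_perfectField _ _
  refine isAdicFormallySmooth_of_extends (Λ := F) (halg ▸ hFP) ?_
  letI : Field (P ⧸ m) := Ideal.Quotient.field m
  suffices hinj : Function.Injective ((KaehlerDifferential.mapBaseChange ℤ k P).lTensor (P ⧸ m)) by
    exact (extends_of_injective hinj).of_tower
  -- detect through the residue field and the partial derivatives at the origin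
  letI : Algebra P K := (constantCoeff : P →+* K).toAlgebra
  haveI : IsScalarTower k P K := IsScalarTower.of_algebraMap_eq fun a => (hc0 a).symm
  haveI : @IsScalarTower ℤ P K Algebra.toSMul Algebra.toSMul Algebra.toSMul :=
    IsScalarTower.of_algebraMap_eq fun r => by simp
  refine (Groth.Agent.EGA41Adic.injective_iff_indep (k := k) (A := P) (P ⧸ m)).mpr ?_
  let eL : (P ⧸ m) →ₗ[P] K :=
    { toFun := e0
      map_add' := map_add e0
      map_smul' := fun c x => by
        obtain ⟨x, rfl⟩ := Ideal.Quotient.mk_surjective x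
        show constantCoeff (c * x) = constantCoeff c * constantCoeff x
        exact map_mul _ _ _ }
  let q : (P ⧸ m) ⊗[P] Ω[P⁄ℤ] →ₗ[P] K ⊗[P] Ω[P⁄ℤ] := LinearMap.rTensor (Ω[P⁄ℤ]) eL
  have hK : LinearIndependent K (Groth.Agent.EGA41Adic.fam k P K) := by
    rw [← Groth.Agent.EGA41Adic.injective_iff_indep, injective_iff_map_eq_zero]
    intro z hz
    let θ := TensorProduct.AlgebraTensorModule.cancelBaseChange k P K K (Ω[k⁄ℤ])
    let z' := θ z
    have hw : (KaehlerDifferential.mapBaseChange ℤ k P).baseChange K (θ.symm z') = 0 := by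
      rw [show θ.symm z' = z from θ.symm_apply_apply z]; exact hz
    -- partial derivatives
    let par : Fin n → (P → K) := fun i x => coeff (Finsupp.single i 1) x
    have hpar : ∀ i x y, par i (x * y) = constantCoeff x * par i y + constantCoeff y * par i x := by
      intro i x y
      show coeff (Finsupp.single i 1) (x * y) = _
      rw [coeff_mul, Finsupp.antidiagonal_single, Finset.sum_map, Finset.Nat.sum_antidiagonal_succ,
        Finset.Nat.antidiagonal_zero, Finset.sum_singleton]
      simp [par, mul_comm]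
    let dP : Fin n → Derivation ℤ P K := fun i => Derivation.mk'
      (AddMonoidHom.toIntLinearMap (AddMonoidHom.mk' (par i) fun x y => map_add _ x y)) fun x y => hpar i x y
    let l : K ⊗[P] Ω[P⁄ℤ] →ₗ[K] (Fin n → K) :=
      LinearMap.pi fun i => (dP i).liftKaehlerDifferential.liftBaseChange K
    let p : K ⊗[P] Ω[P⁄ℤ] →ₗ[K] Ω[K⁄ℤ] := KaehlerDifferential.mapBaseChange ℤ P K
    let w : K ⊗[k] Ω[k⁄ℤ] →ₗ[K] K ⊗[P] Ω[P⁄ℤ] :=
      (KaehlerDifferential.mapBaseChange ℤ k P).baseChange K ∘ₗ θ.symm.toLinearMap
    have hgen : ∀ a, w ((1 : K) ⊗ₜ[k] KaehlerDifferential.D ℤ k a) = (1 : K) ⊗ₜ[P] KaehlerDifferential.D ℤ P (j a) := by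
      intro a
      simp [w, θ, KaehlerDifferential.map_D]
      rfl
    have hlw : l ∘ₗ w = φ := by
      refine TensorProduct.AlgebraTensorModule.ext fun c ω => ?_
      rw [show c ⊗ₜ[k] ω = c • ((1 : K) ⊗ₜ[k] ω) by rw [TensorProduct.smul_tmul', smul_eq_mul, mul_one], map_smul, map_smul]
      congr 1
      induction (show ω ∈ Submodule.span k (Set.range (KaehlerDifferential.D ℤ k)) by
        rw [KaehlerDifferential.span_range_derivation]; trivial) using Submodule.span_induction with
      | mem x hx =>
        obtain ⟨a, rfl⟩ := hx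
        rw [LinearMap.comp_apply, hgen]
        refine funext fun i => ?_
        show ((dP i).liftKaehlerDifferential.liftBaseChange K) ((1 : K) ⊗ₜ[P] KaehlerDifferential.D ℤ P (j a)) = δ a i
        rw [LinearMap.liftBaseChange_tmul, one_smul, Derivation.liftKaehlerDifferential_comp_D]
        show coeff (Finsupp.single i 1) (j a) = δ a i
        have h1 : coeff (Finsupp.single i 1) (j a - s a) = 0 := by
          have hsq := hj' a
          rw [pow_two] at hsq
          refine Submodule.mul_induction_on hsq (fun x hx y hy => ?_) fun x y hx hy => by rw [map_add, hx, hy, add_zero]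
          have := hpar i x y
          rw [(mem_maximalIdeal_iff x).mp hx, (mem_maximalIdeal_iff y).mp hy, zero_mul, zero_mul,
            add_zero] at this
          exact this
        rw [map_sub, sub_eq_zero] at h1
        rw [h1]
        simp [s, coeff_C, MvPowerSeries.coeff_X, Finsupp.single_eq_single_iff, Finset.sum_ite_eq]
      | zero => simp
      | add x y _ _ hx hy => simp only [TensorProduct.tmul_add, map_add, hx, hy]
      | smul c x _ hx =>
        simp only [TensorProduct.tmul_smul, ← algebraMap_smul K c ((1 : K) ⊗ₜ[k] x), map_smul, hx]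
    have hpw : p ∘ₗ w = KaehlerDifferential.mapBaseChange ℤ k K := by
      refine TensorProduct.AlgebraTensorModule.ext fun c ω => ?_
      rw [show c ⊗ₜ[k] ω = c • ((1 : K) ⊗ₜ[k] ω) by rw [TensorProduct.smul_tmul', smul_eq_mul, mul_one], map_smul, map_smul]
      congr 1
      induction (show ω ∈ Submodule.span k (Set.range (KaehlerDifferential.D ℤ k)) by
        rw [KaehlerDifferential.span_range_derivation]; trivial) using Submodule.span_induction with
      | mem x hx =>
        obtain ⟨a, rfl⟩ := hx
        rw [LinearMap.comp_apply, hgen]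
        simp only [p, KaehlerDifferential.mapBaseChange_tmul, one_smul, KaehlerDifferential.map_D]
        exact congrArg _ (hc0 a)
      | zero => simp
      | add x y _ _ hx hy => simp only [TensorProduct.tmul_add, map_add, hx, hy]
      | smul c x _ hx =>
        simp only [TensorProduct.tmul_smul, ← algebraMap_smul K c ((1 : K) ⊗ₜ[k] x), map_smul, hx]
    have hw' : w z' = 0 := hw
    have h1 : z' ∈ Υ := by
      show KaehlerDifferential.mapBaseChange ℤ k K z' = 0
      rw [← hpw, LinearMap.comp_apply, hw', map_zero]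
    have h2 : φ z' = 0 := by rw [← hlw, LinearMap.comp_apply, hw', map_zero]
    exact (θ.map_eq_zero_iff).mp (hφ z' h1 h2)
  rw [linearIndependent_iff']
  intro t g hg i hi
  have h1 := congrArg q hg
  erw [map_sum, map_zero] at h1
  have h2 : ∑ i ∈ t, e0 (g i) • Groth.Agent.EGA41Adic.fam k P K i = 0 := by
    refine Eq.trans (Finset.sum_congr rfl fun i _ => ?_) h1
    symm
    show q (g i • ((1 : P ⧸ m) ⊗ₜ[P] _)) = _
    erw [TensorProduct.smul_tmul', LinearMap.rTensor_tmul]
    show eL (g i * 1) ⊗ₜ[P] _ = e0 (g i) • ((1 : K) ⊗ₜ[P] _)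
    rw [mul_one, TensorProduct.smul_tmul', smul_eq_mul, mul_one]
    rfl
  exact (map_eq_zero_iff e0 he0.1).mp (linearIndependent_iff'.mp hK t _ h2 i hi)

end Groth.Agent.EGA41SymGr.Model
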