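/-
Adic formal smoothness of a quotient of an adically formally smooth algebra.
-/
import Groth.Agent.EGA41SymGr.Tower

set_option autoImplicit false

universe u

open TensorProduct

namespace Groth.Agent.EGA41SymGr

variable {A B : Type u} [CommRing A] [CommRing B] [Algebra A B]

/-- Derivations lift along surjections of modules killed by an open ideal. -/
theorem exists_derivation_lift {I : Ideal B} (hB : CAlgX.IsAdicFormallySmooth A B I) {N : ℕ} {M M' : Type u}
    [AddCommGroup M] [Module B M] [Module A M] [IsScalarTower A B M]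
    [AddCommGroup M'] [Module B M'] [Module A M'] [IsScalarTower A B M']
    (hM : ∀ b ∈ I ^ N, ∀ x : M, b • x = 0) (hM' : ∀ b ∈ I ^ N, ∀ x : M', b • x = 0) (p : M →ₗ[B] M')
    (hp : Function.Surjective p) (D₀ : Derivation A B M') : ∃ D : Derivation A B M, ∀ b, p (D b) = D₀ b := by
  let J' := I ^ N
  letI : Module (B ⧸ J') M := Module.IsTorsionBySet.module (I := J') fun x b => hM b.1 b.2 x
  haveI : IsScalarTower B (B ⧸ J') M := Module.IsTorsionBySet.isScalarTower (fun x b => hM b.1 b.2 x)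
  haveI : IsScalarTower A (B ⧸ J') M := IsScalarTower.of_algebraMap_smul fun r x => by
    rw [IsScalarTower.algebraMap_apply A B (B ⧸ J'), algebraMap_smul (B ⧸ J') (algebraMap A B r) x, algebraMap_smul]
  letI : Module (B ⧸ J')ᵐᵒᵖ M := Module.compHom M ((RingHom.id _).fromOpposite fun x y => mul_comm x y)
  haveI : IsCentralScalar (B ⧸ J') M := ⟨fun _ _ => rfl⟩
  haveI : IsScalarTower A (B ⧸ J')ᵐᵒᵖ M := ⟨fun r c x => by
    show (r • c.unop) • x = r • c.unop • x
    exact smul_assoc _ _ _⟩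
  letI : Module (B ⧸ J') M' := Module.IsTorsionBySet.module (I := J') fun x b => hM' b.1 b.2 x
  haveI : IsScalarTower B (B ⧸ J') M' := Module.IsTorsionBySet.isScalarTower (fun x b => hM' b.1 b.2 x)
  haveI : IsScalarTower A (B ⧸ J') M' := IsScalarTower.of_algebraMap_smul fun r x => by
    rw [IsScalarTower.algebraMap_apply A B (B ⧸ J'), algebraMap_smul (B ⧸ J') (algebraMap A B r) x, algebraMap_smul]
  letI : Module (B ⧸ J')ᵐᵒᵖ M' := Module.compHom _ ((RingHom.id _).fromOpposite fun x y => mul_comm x y)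
  haveI : IsCentralScalar (B ⧸ J') M' := ⟨fun _ _ => rfl⟩
  haveI : IsScalarTower A (B ⧸ J')ᵐᵒᵖ M' := ⟨fun r c x => by
    show (r • c.unop) • x = r • c.unop • x
    exact smul_assoc _ _ _⟩
  let π : TrivSqZeroExt (B ⧸ J') M →ₐ[A] TrivSqZeroExt (B ⧸ J') M' :=
    { toFun := fun z => TrivSqZeroExt.inl z.fst + TrivSqZeroExt.inr (p z.snd)
      map_one' := TrivSqZeroExt.ext (by simp) (by simp)
      map_mul' := fun z w => by
        obtain ⟨c, hc⟩ := Ideal.Quotient.mk_surjective z.fst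
        obtain ⟨d, hd⟩ := Ideal.Quotient.mk_surjective w.fst
        refine TrivSqZeroExt.ext (by simp) ?_
        simp only [TrivSqZeroExt.snd_mul, TrivSqZeroExt.fst_add, TrivSqZeroExt.fst_inl, TrivSqZeroExt.fst_inr,
          TrivSqZeroExt.snd_add, TrivSqZeroExt.snd_inl, TrivSqZeroExt.snd_inr, add_zero, zero_add, op_smul_eq_smul,
          map_add, ← hc, ← hd, ← Ideal.Quotient.algebraMap_eq, algebraMap_smul, map_smul]
      map_zero' := TrivSqZeroExt.ext (by simp) (by simp)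
      map_add' := fun z w => TrivSqZeroExt.ext (by simp) (by simp)
      commutes' := fun r => TrivSqZeroExt.ext (by simp [TrivSqZeroExt.algebraMap_eq_inl'])
        (by simp [TrivSqZeroExt.algebraMap_eq_inl']) }
  have hπs : Function.Surjective π := fun z => by
    obtain ⟨x, hx⟩ := hp z.snd
    exact ⟨TrivSqZeroExt.inl z.fst + TrivSqZeroExt.inr x, TrivSqZeroExt.ext (by simp [π]) (by simp [π, ← hx])⟩
  have hker : RingHom.ker π ^ 2 = ⊥ := by
    rw [pow_two, eq_bot_iff, Ideal.mul_le]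
    intro x hx y hy
    have hx1 : x.fst = 0 := by
      have := congrArg TrivSqZeroExt.fst (RingHom.mem_ker.mp hx)
      simpa [π] using this
    have hy1 : y.fst = 0 := by
      have := congrArg TrivSqZeroExt.fst (RingHom.mem_ker.mp hy)
      simpa [π] using this
    rw [Ideal.mem_bot]
    exact TrivSqZeroExt.ext (by simp [hx1]) (by simp [hx1, hy1])
  let w : B →ₐ[A] TrivSqZeroExt (B ⧸ J') M' :=
    { toFun := fun b => TrivSqZeroExt.inl (Ideal.Quotient.mk J' b) + TrivSqZeroExt.inr (D₀ b)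
      map_one' := TrivSqZeroExt.ext (by simp) (by simp)
      map_mul' := fun a b => by
        refine TrivSqZeroExt.ext (by simp) ?_
        simp only [TrivSqZeroExt.snd_mul, TrivSqZeroExt.fst_add, TrivSqZeroExt.fst_inl, TrivSqZeroExt.fst_inr,
          TrivSqZeroExt.snd_add, TrivSqZeroExt.snd_inl, TrivSqZeroExt.snd_inr, add_zero, zero_add, op_smul_eq_smul,
          ← Ideal.Quotient.algebraMap_eq, algebraMap_smul, Derivation.leibniz]
      map_zero' := TrivSqZeroExt.ext (by simp) (by simp)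
      map_add' := fun a b => TrivSqZeroExt.ext (by simp) (by simp)
      commutes' := fun r => TrivSqZeroExt.ext
        (by simp [TrivSqZeroExt.algebraMap_eq_inl', ← Ideal.Quotient.algebraMap_eq, ← IsScalarTower.algebraMap_apply])
        (by simp [TrivSqZeroExt.algebraMap_eq_inl']) }
  let e := Ideal.quotientKerAlgEquivOfSurjective hπs
  obtain ⟨v, hv⟩ := hB _ (RingHom.ker π) hker (e.symm.toAlgHom.comp w) ⟨N * 2, fun z hz => by
    have hwJ : (I ^ N).map w.toRingHom ≤ RingHom.ker (TrivSqZeroExt.fstHom A (B ⧸ J') M') := by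
      refine Ideal.map_le_iff_le_comap.mpr fun b hb => ?_
      show (TrivSqZeroExt.inl (Ideal.Quotient.mk J' b) + TrivSqZeroExt.inr (D₀ b)).fst = 0
      rw [TrivSqZeroExt.fst_add, TrivSqZeroExt.fst_inl, TrivSqZeroExt.fst_inr, add_zero]
      exact Ideal.Quotient.eq_zero_iff_mem.mpr hb
    have h2 := Ideal.mem_map_of_mem w.toRingHom hz
    rw [pow_mul, Ideal.map_pow] at h2
    have h3 := Ideal.pow_right_mono hwJ 2 h2
    have h4 : RingHom.ker (TrivSqZeroExt.fstHom A (B ⧸ J') M') ^ 2 = ⊥ := by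
      rw [pow_two, eq_bot_iff, Ideal.mul_le]
      intro x hx y hy
      have hx1 : x.fst = 0 := RingHom.mem_ker.mp hx
      have hy1 : y.fst = 0 := RingHom.mem_ker.mp hy
      rw [Ideal.mem_bot]
      exact TrivSqZeroExt.ext (by simp [hx1]) (by simp [hx1, hy1])
    rw [h4, Ideal.mem_bot] at h3
    show e.symm (w z) = 0
    rw [show w z = 0 from h3, map_zero]⟩
  have hπv : ∀ b, π (v b) = w b := fun b => by
    have h2 := congrArg e (DFunLike.congr_fun hv b)
    simp only [AlgHom.comp_apply, AlgEquiv.coe_toAlgHom, AlgEquiv.apply_symm_apply] at h2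
    exact h2
  have hfst : ∀ b, (v b).fst = algebraMap B (B ⧸ J') b := fun b => by
    have := congrArg TrivSqZeroExt.fst (hπv b)
    simpa [π, w] using this
  have hsnd : ∀ b, p (v b).snd = D₀ b := fun b => by
    have := congrArg TrivSqZeroExt.snd (hπv b)
    simpa [π, w] using this
  obtain ⟨D₁, hD₁⟩ := derivation_of_hom v hfst
  exact ⟨D₁, fun b => by rw [hD₁, hsnd]⟩

variable (A)

/-- Linear forms on `J` with values in modules killed by the ideal come from derivations. -/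
def ExtendsIdeal (J 𝔔 : Ideal B) : Prop :=
  ∀ (M : Type u) [AddCommGroup M] [Module B M] [Module A M] [IsScalarTower A B M],
    (∀ b ∈ 𝔔, ∀ x : M, b • x = 0) → ∀ h : J →ₗ[B] M, ∃ D : Derivation A B M, ∀ j : J, D (j : B) = h j

variable {A}

theorem extendsIdeal_pow {I J 𝔔 : Ideal B} (hB : CAlgX.IsAdicFormallySmooth A B I) (hJ : J ≤ 𝔔) {n : ℕ}
    (hn : I ^ n ≤ 𝔔) (h1 : ExtendsIdeal A J 𝔔) : ∀ j, ExtendsIdeal A J (𝔔 ^ j ⊔ J) := by
  intro j
  induction j with
  | zero =>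
    intro M _ _ _ _ hM h
    refine ⟨0, fun x => ?_⟩
    have := hM 1 (by simp) (h x)
    rw [one_smul] at this
    rw [Derivation.zero_apply, this]
  | succ j ih =>
    intro M _ _ _ _ hM h
    rcases Nat.eq_zero_or_pos j with rfl | hj
    · exact h1 M (fun b hb x => hM b (Ideal.mem_sup_left (by simpa using hb)) x) h
    let S : Submodule B M := (𝔔 ^ j) • (⊤ : Submodule B M)
    have hS : ∀ b ∈ 𝔔, ∀ x : S, b • x = 0 := fun b hb x => Subtype.ext <| by
      show b • (x : M) = 0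
      have hle : 𝔔 • S ≤ ⊥ := by
        rw [← Submodule.mul_smul, ← pow_succ']
        exact Submodule.smul_le.mpr fun c hc y _ => (Submodule.mem_bot B).mpr (hM c (Ideal.mem_sup_left hc) y)
      exact (Submodule.mem_bot B).mp (hle (Submodule.smul_mem_smul hb x.2))
    have hQ : ∀ b ∈ 𝔔 ^ j ⊔ J, ∀ x : M ⧸ S, b • x = 0 := fun b hb x => by
      obtain ⟨x, rfl⟩ := Submodule.Quotient.mk_surjective S x
      rw [← Submodule.Quotient.mk_smul, Submodule.Quotient.mk_eq_zero]
      obtain ⟨c, hc, d, hd, rfl⟩ := Submodule.mem_sup.mp hb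
      rw [add_smul, hM d (Ideal.mem_sup_right hd) x, add_zero]
      exact Submodule.smul_mem_smul hc Submodule.mem_top
    obtain ⟨D₀, hD₀⟩ := ih (M ⧸ S) hQ (S.mkQ ∘ₗ h)
    have hpow : I ^ (n * (j + 1)) ≤ 𝔔 ^ (j + 1) := by rw [pow_mul]; exact Ideal.pow_right_mono hn _
    have hIM : ∀ b ∈ I ^ (n * (j + 1)), ∀ x : M, b • x = 0 := fun b hb x => hM b (Ideal.mem_sup_left (hpow hb)) x
    obtain ⟨D₁, hD₁⟩ := exists_derivation_lift hB hIM (fun b hb x => by
        obtain ⟨x, rfl⟩ := Submodule.Quotient.mk_surjective S x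
        rw [← Submodule.Quotient.mk_smul, hIM b hb x, Submodule.Quotient.mk_zero]) S.mkQ S.mkQ_surjective D₀
    let Δ : J →ₗ[B] M :=
      { toFun := fun x => h x - D₁ (x : B)
        map_add' := fun a b => by simp only [map_add, Submodule.coe_add]; abel
        map_smul' := fun c x => by
          rw [Submodule.coe_smul, smul_eq_mul, Derivation.leibniz, map_smul, RingHom.id_apply, smul_sub,
            hM (x : B) (Ideal.mem_sup_right x.2) (D₁ c), add_zero] }
    have hΔ : ∀ x, Δ x ∈ S := fun x => by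
      rw [← Submodule.Quotient.mk_eq_zero, ← Submodule.mkQ_apply]
      show S.mkQ (h x - D₁ (x : B)) = 0
      rw [map_sub, hD₁, hD₀]
      exact sub_self _
    obtain ⟨D₂, hD₂⟩ := h1 S hS (Δ.codRestrict S hΔ)
    refine ⟨D₁ + (S.subtype).compDer D₂, fun x => ?_⟩
    show D₁ (x : B) + (D₂ (x : B) : M) = h x
    rw [hD₂]
    show D₁ (x : B) + (h x - D₁ (x : B)) = h x
    abel

theorem sup_pow_le {R : Type u} [CommRing R] (I J : Ideal R) (l : ℕ) : (I ⊔ J) ^ l ≤ I ^ l ⊔ J := by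
  induction l with
  | zero => rw [pow_zero, pow_zero, Ideal.one_eq_top, top_sup_eq]
  | succ l ih =>
    rw [pow_succ, pow_succ]
    refine (Ideal.mul_mono_left ih).trans ?_
    rw [Ideal.sup_mul, Ideal.mul_sup]
    refine sup_le (sup_le le_sup_left ?_) ?_
    · show I ^ l * J ≤ I ^ l * I ⊔ J
      exact le_trans Ideal.mul_le_right le_sup_right
    · show J * (I ⊔ J) ≤ I ^ l * I ⊔ J
      exact le_trans Ideal.mul_le_left le_sup_right

theorem isAdicFormallySmooth_quotient {I J 𝔔 : Ideal B} (hB : CAlgX.IsAdicFormallySmooth A B I) (hJ : J ≤ 𝔔)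
    {n m : ℕ} (hn : I ^ n ≤ 𝔔) (hm : 𝔔 ^ m ≤ I ⊔ J) (h1 : ExtendsIdeal A J 𝔔) :
    CAlgX.IsAdicFormallySmooth A (B ⧸ J) (I.map (Ideal.Quotient.mk J)) := by
  intro E _ _ K hK ψ ⟨k, hk⟩
  have hk' : ∀ b ∈ I ^ k, ψ (Ideal.Quotient.mk J b) = 0 := fun b hb =>
    hk _ (by rw [← Ideal.map_pow]; exact Ideal.mem_map_of_mem _ hb)
  obtain ⟨v, hv⟩ := hB E K hK (ψ.comp (Ideal.Quotient.mkₐ A J)) ⟨k, hk'⟩
  have hv' : ∀ b, Ideal.Quotient.mk K (v b) = ψ (Ideal.Quotient.mk J b) := fun b => DFunLike.congr_fun hv b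
  let M := Groth.Agent.EGA41FS.Twist K
  have hKK : ∀ p ∈ K, ∀ q ∈ K, p * q = 0 := fun p hp q hq => by
    have := Ideal.mul_mem_mul hp hq
    rwa [← pow_two, hK, Ideal.mem_bot] at this
  letI : Module B M := Module.compHom M v.toRingHom
  letI : Module A M := Module.compHom M (algebraMap A E)
  have val_B : ∀ (b : B) (x : M), Groth.Agent.EGA41FS.Twist.val (b • x) = v b * Groth.Agent.EGA41FS.Twist.val x :=
    fun b x => rfl
  have val_inj := Groth.Agent.EGA41FS.Twist.val_injective (J := K)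
  haveI : IsScalarTower A B M := IsScalarTower.of_algebraMap_smul fun a x => val_inj <| by
    rw [val_B, v.commutes]; rfl
  have hsup := fun l => sup_pow_le I J l
  have hkill : ∀ b ∈ 𝔔 ^ (m * k) ⊔ J, ∀ x : M, b • x = 0 := fun b hb x => val_inj <| by
    rw [val_B, map_zero]
    refine hKK _ ?_ _ (Groth.Agent.EGA41FS.Twist.val_mem x)
    rw [← Ideal.Quotient.eq_zero_iff_mem, hv']
    have hb' : b ∈ I ^ k ⊔ J := by
      have hle : 𝔔 ^ (m * k) ⊔ J ≤ I ^ k ⊔ J :=
        sup_le (by rw [pow_mul]; exact (Ideal.pow_right_mono hm k).trans (hsup k)) le_sup_right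
      exact hle hb
    obtain ⟨c, hc, d, hd, rfl⟩ := Submodule.mem_sup.mp hb'
    rw [map_add, map_add, hk' c hc, Ideal.Quotient.eq_zero_iff_mem.mpr hd, map_zero, add_zero]
  have hvJ : ∀ x : J, v (x : B) ∈ K := fun x => by
    rw [← Ideal.Quotient.eq_zero_iff_mem, hv', Ideal.Quotient.eq_zero_iff_mem.mpr x.2, map_zero]
  let h : J →ₗ[B] M :=
    { toFun := fun x => Groth.Agent.EGA41FS.Twist.mk _ (hvJ x)
      map_add' := fun a b => val_inj <| by simp
      map_smul' := fun c x => val_inj <| by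
        rw [RingHom.id_apply, val_B, Groth.Agent.EGA41FS.Twist.val_mk, Groth.Agent.EGA41FS.Twist.val_mk,
          Submodule.coe_smul, smul_eq_mul, map_mul] }
  obtain ⟨D, hD⟩ := extendsIdeal_pow hB hJ hn h1 (m * k) M hkill h
  let g : B → E := fun b => v b - Groth.Agent.EGA41FS.Twist.val (D b)
  let g' : B →ₐ[A] E :=
    { toFun := g
      map_one' := by simp [g]
      map_mul' := fun a b => by
        simp only [g, D.leibniz, map_add, map_mul, val_B]
        linear_combination -hKK _ (Groth.Agent.EGA41FS.Twist.val_mem (D a)) _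
          (Groth.Agent.EGA41FS.Twist.val_mem (D b))
      map_zero' := by simp [g]
      map_add' := fun a b => by simp only [g, map_add]; ring
      commutes' := fun a => by simp [g] }
  refine ⟨Ideal.Quotient.liftₐ J g' fun x hx => ?_, AlgHom.ext fun y => ?_⟩
  · show v x - Groth.Agent.EGA41FS.Twist.val (D x) = 0
    rw [hD ⟨x, hx⟩]
    exact sub_self _
  · obtain ⟨b, rfl⟩ := Ideal.Quotient.mk_surjective y
    show Ideal.Quotient.mk K (v b - Groth.Agent.EGA41FS.Twist.val (D b)) = _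
    rw [map_sub, hv', Ideal.Quotient.eq_zero_iff_mem.mpr (Groth.Agent.EGA41FS.Twist.val_mem _), sub_zero]

theorem extendsIdeal_of_isAdicFormallySmooth [IsNoetherianRing B] {I J 𝔔 : Ideal B} (hJ : J ≤ 𝔔) {n : ℕ}
    (hn : I ^ n ≤ 𝔔) (hC : CAlgX.IsAdicFormallySmooth A (B ⧸ J) (I.map (Ideal.Quotient.mk J))) :
    ExtendsIdeal A J 𝔔 := by
  intro M _ _ _ _ hM h
  obtain ⟨c, hc⟩ := Ideal.exists_pow_inf_eq_pow_smul I (J : Submodule B B)
  let N := c + n
  have hAR : ∀ x (hx : x ∈ J), x ∈ I ^ N → h ⟨x, hx⟩ = 0 := by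
    intro x hx hxN
    have hsm : x ∈ I ^ n • J := by
      have h1 : x ∈ I ^ N • (⊤ : Submodule B B) ⊓ J := ⟨by rw [smul_eq_mul, Ideal.mul_top]; exact hxN, hx⟩
      rw [hc N (Nat.le_add_right c n), show N - c = n by omega] at h1
      exact Submodule.smul_mono le_rfl inf_le_right h1
    have H : ∃ hx', h ⟨x, hx'⟩ = 0 := by
      refine Submodule.smul_induction_on hsm (fun i hi j hj => ⟨Ideal.mul_mem_left _ i hj, ?_⟩)
        fun a b ⟨ha, ha'⟩ ⟨hb, hb'⟩ => ⟨add_mem ha hb, ?_⟩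
      · rw [show (⟨i • j, Ideal.mul_mem_left _ i hj⟩ : J) = i • ⟨j, hj⟩ from rfl, map_smul, hM i (hn hi)]
      · rw [show (⟨a + b, add_mem ha hb⟩ : J) = ⟨a, ha⟩ + ⟨b, hb⟩ from rfl, map_add, ha', hb', add_zero]
    obtain ⟨_, H⟩ := H
    exact H
  letI : Module Bᵐᵒᵖ M := Module.compHom M ((RingHom.id _).fromOpposite fun x y => mul_comm x y)
  haveI : IsCentralScalar B M := ⟨fun _ _ => rfl⟩
  haveI : IsScalarTower A Bᵐᵒᵖ M := ⟨fun r c x => by
    show (r • c.unop) • x = r • c.unop • x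
    exact smul_assoc _ _ _⟩
  have hkill : ∀ x ∈ J ⊔ I ^ N, ∀ z : M, x • z = 0 := fun x hx z => by
    obtain ⟨a, ha, b, hb, rfl⟩ := Submodule.mem_sup.mp hx
    rw [add_smul, hM a (hJ ha) z, hM b (hn (Ideal.pow_le_pow_right (Nat.le_add_left n c) hb)) z, add_zero]
  let G : Ideal (TrivSqZeroExt B M) :=
    { carrier := {x | ∃ j : J, x.fst - (j : B) ∈ I ^ N ∧ x.snd = -h j}
      zero_mem' := ⟨0, by simp, by simp⟩
      add_mem' := by
        rintro x y ⟨i, hi, hi'⟩ ⟨j, hj, hj'⟩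
        refine ⟨i + j, ?_, by simp [hi', hj']; abel⟩
        rw [TrivSqZeroExt.fst_add, Submodule.coe_add, add_sub_add_comm]
        exact add_mem hi hj
      smul_mem' := by
        rintro t x ⟨j, hj, hj'⟩
        refine ⟨t.fst • j, ?_, ?_⟩
        · show t.fst * x.fst - t.fst * (j : B) ∈ I ^ N
          rw [← mul_sub]; exact Ideal.mul_mem_left _ _ hj
        · have hx : x.fst ∈ J ⊔ I ^ N := by
            rw [show x.fst = (j : B) + (x.fst - j) by ring]
            exact add_mem (Ideal.mem_sup_left j.2) (Ideal.mem_sup_right hj)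
          rw [smul_eq_mul, TrivSqZeroExt.snd_mul, op_smul_eq_smul, hkill _ hx, add_zero, hj', map_smul, smul_neg] }
  let P := J ⊔ I ^ N
  let π₀ : (TrivSqZeroExt B M) →ₐ[A] B ⧸ P := (Ideal.Quotient.mkₐ A P).comp (TrivSqZeroExt.fstHom A B M)
  have hπ₀ : ∀ x ∈ G, π₀ x = 0 := by
    rintro x ⟨j, hj, _⟩
    show Ideal.Quotient.mk P x.fst = 0
    rw [Ideal.Quotient.eq_zero_iff_mem, show x.fst = (j : B) + (x.fst - j) by ring]
    exact add_mem (Ideal.mem_sup_left j.2) (Ideal.mem_sup_right hj)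
  let π : (TrivSqZeroExt B M) ⧸ G →ₐ[A] B ⧸ P := Ideal.Quotient.liftₐ G π₀ hπ₀
  have hπs : Function.Surjective π := fun y => by
    obtain ⟨b, rfl⟩ := Ideal.Quotient.mk_surjective y
    exact ⟨Ideal.Quotient.mk G (TrivSqZeroExt.inl b), rfl⟩
  have hM0 : ∀ z, Ideal.Quotient.mk G (TrivSqZeroExt.inr z : (TrivSqZeroExt B M)) = 0 → z = 0 := fun z hz => by
    obtain ⟨j, hj, hj'⟩ := Ideal.Quotient.eq_zero_iff_mem.mp hz
    rw [TrivSqZeroExt.fst_inr, zero_sub, neg_mem_iff] at hj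
    rw [TrivSqZeroExt.snd_inr, hAR _ j.2 hj, neg_zero] at hj'
    exact hj'
  have hrep : ∀ y : (TrivSqZeroExt B M) ⧸ G, π y = 0 → ∃ z, y = Ideal.Quotient.mk G (TrivSqZeroExt.inr z : (TrivSqZeroExt B M)) := fun y hy => by
    obtain ⟨x, rfl⟩ := Ideal.Quotient.mk_surjective y
    have hx : x.fst ∈ P := Ideal.Quotient.eq_zero_iff_mem.mp hy
    obtain ⟨a, ha, b, hb, hab⟩ := Submodule.mem_sup.mp hx
    refine ⟨x.snd + h ⟨a, ha⟩, Ideal.Quotient.eq.mpr ⟨⟨a, ha⟩, ?_, by simp⟩⟩
    simpa [← hab] using hb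
  have hker : RingHom.ker π ^ 2 = ⊥ := by
    rw [pow_two, eq_bot_iff, Ideal.mul_le]
    intro a ha b hb
    obtain ⟨y, rfl⟩ := hrep a (RingHom.mem_ker.mp ha)
    obtain ⟨z, rfl⟩ := hrep b (RingHom.mem_ker.mp hb)
    rw [Ideal.mem_bot, ← map_mul, TrivSqZeroExt.inr_mul_inr, map_zero]
  let e := Ideal.quotientKerAlgEquivOfSurjective hπs
  obtain ⟨χ, hχ⟩ := hC _ (RingHom.ker π) hker
    (e.symm.toAlgHom.comp (Ideal.Quotient.factorₐ A (le_sup_left : J ≤ P))) ⟨N, fun y hy => by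
      rw [← Ideal.map_pow] at hy
      obtain ⟨b, hb, rfl⟩ := (Ideal.mem_map_iff_of_surjective _ Ideal.Quotient.mk_surjective).mp hy
      show e.symm (Ideal.Quotient.mk P b) = 0
      rw [Ideal.Quotient.eq_zero_iff_mem.mpr (Ideal.mem_sup_right hb), map_zero]⟩
  have hπχ : ∀ b, π (χ (Ideal.Quotient.mk J b)) = Ideal.Quotient.mk P b := fun b => by
    have h2 := congrArg e (DFunLike.congr_fun hχ (Ideal.Quotient.mk J b))
    simp only [AlgHom.comp_apply, AlgEquiv.coe_toAlgHom, AlgEquiv.apply_symm_apply] at h2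
    exact h2
  let ι₀ : B →ₐ[A] (TrivSqZeroExt B M) ⧸ G := (Ideal.Quotient.mkₐ A G).comp (IsScalarTower.toAlgHom A B (TrivSqZeroExt B M))
  let χ₀ : B →ₐ[A] (TrivSqZeroExt B M) ⧸ G := χ.comp (Ideal.Quotient.mkₐ A J)
  have hdiff : ∀ b, ∃ z, ι₀ b - χ₀ b = Ideal.Quotient.mk G (TrivSqZeroExt.inr z : (TrivSqZeroExt B M)) := fun b => hrep _ (by
    rw [map_sub]
    show π (Ideal.Quotient.mk G (algebraMap B (TrivSqZeroExt B M) b)) - π (χ (Ideal.Quotient.mk J b)) = 0
    rw [hπχ]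
    exact sub_self _)
  choose d hd using hdiff
  have inj : ∀ y z, Ideal.Quotient.mk G (TrivSqZeroExt.inr y : (TrivSqZeroExt B M)) = Ideal.Quotient.mk G (TrivSqZeroExt.inr z) → y = z :=
    fun y z hyz => by
      refine sub_eq_zero.mp (hM0 _ ?_)
      rw [TrivSqZeroExt.inr_sub, map_sub, hyz, sub_self]
  have hsmul : ∀ (b : B) z, Ideal.Quotient.mk G (TrivSqZeroExt.inr (b • z) : (TrivSqZeroExt B M)) =
      ι₀ b * Ideal.Quotient.mk G (TrivSqZeroExt.inr z) := fun b z => by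
    show _ = Ideal.Quotient.mk G (algebraMap B (TrivSqZeroExt B M) b) * _
    rw [← map_mul, TrivSqZeroExt.algebraMap_eq_inl, TrivSqZeroExt.inl_mul_inr]
  let L : B →ₗ[A] M :=
    { toFun := d
      map_add' := fun a b => inj _ _ (by rw [← hd, TrivSqZeroExt.inr_add, map_add, map_add, map_add, ← hd, ← hd]; ring)
      map_smul' := fun r b => inj _ _ (by
        rw [RingHom.id_apply, ← hd, ← algebraMap_smul B r (d b), hsmul, ← hd, Algebra.smul_def, map_mul, map_mul,
          AlgHom.commutes, AlgHom.commutes]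
        ring) }
  refine ⟨Derivation.mk' L fun a b => inj _ _ ?_, fun j => inj _ _ ?_⟩
  · show _ = Ideal.Quotient.mk G (TrivSqZeroExt.inr (a • d b + b • d a) : (TrivSqZeroExt B M))
    show Ideal.Quotient.mk G (TrivSqZeroExt.inr (d (a * b)) : (TrivSqZeroExt B M)) = _
    rw [← hd, TrivSqZeroExt.inr_add, map_add, hsmul, hsmul, ← hd, ← hd, map_mul, map_mul]
    have h0 : (ι₀ a - χ₀ a) * (ι₀ b - χ₀ b) = 0 := by
      rw [hd, hd, ← map_mul, TrivSqZeroExt.inr_mul_inr, map_zero]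
    linear_combination -h0
  · show Ideal.Quotient.mk G (TrivSqZeroExt.inr (d (j : B)) : (TrivSqZeroExt B M)) = _
    rw [← hd]
    show Ideal.Quotient.mk G (algebraMap B (TrivSqZeroExt B M) (j : B)) - χ (Ideal.Quotient.mk J (j : B)) = _
    rw [Ideal.Quotient.eq_zero_iff_mem.mpr j.2, map_zero, sub_zero, Ideal.Quotient.eq]
    exact ⟨j, by simp [TrivSqZeroExt.algebraMap_eq_inl], by simp [TrivSqZeroExt.algebraMap_eq_inl]⟩

end Groth.Agent.EGA41SymGr
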