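/-
Bases of completed modules from projectivity modulo powers of the ideal, and completed differentials of
adically formally smooth algebras.
-/
import Mathlib

set_option autoImplicit false

universe u v

open TensorProduct

namespace Groth.Agent.EGA41SymGr

variable {R : Type u} [CommRing R] (I : Ideal R) {M : Type v} [AddCommGroup M] [Module R M] {d : ℕ}

theorem tmul_eq_zero_iff (J : Ideal R) (z : M) :
    ((1 : R ⧸ J) ⊗ₜ[R] z) = 0 ↔ z ∈ J • (⊤ : Submodule R M) := by
  rw [← LinearEquiv.map_eq_zero_iff (TensorProduct.quotTensorEquivQuotSMul M J), ← Submodule.Quotient.mk_eq_zero]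
  rw [show (1 : R ⧸ J) = Ideal.Quotient.mk J 1 from rfl, TensorProduct.quotTensorEquivQuotSMul_mk_tmul, one_smul]

theorem coord_mem_of_mem_smul_top {J : Ideal R} {x : Fin d → R} (hx : x ∈ J • (⊤ : Submodule R (Fin d → R))) (i : Fin d) :
    x i ∈ J := by
  have := Submodule.map_smul'' J ⊤ (LinearMap.proj i : (Fin d → R) →ₗ[R] R)
  have h1 : x i ∈ J • (⊤ : Submodule R (Fin d → R)).map (LinearMap.proj i) := this ▸ ⟨x, hx, rfl⟩
  have h2 := Submodule.smul_mono (le_refl J) (le_top : (⊤ : Submodule R (Fin d → R)).map (LinearMap.proj i) ≤ ⊤) h1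
  rwa [smul_eq_mul, Ideal.mul_top] at h2

theorem mem_smul_top_of_coord {J : Ideal R} {x : Fin d → R} (hx : ∀ i, x i ∈ J) :
    x ∈ J • (⊤ : Submodule R (Fin d → R)) := by
  rw [pi_eq_sum_univ x]
  exact sum_mem fun i _ => Submodule.smul_mem_smul (hx i) Submodule.mem_top

theorem bijective_of_comp [IsAdicComplete I R] (e : (Fin d → R) →ₗ[R] M)
    (hs : ∀ n, ∀ z, ∃ x, z - e x ∈ I ^ n • (⊤ : Submodule R M))
    (hi : ∀ n x, e x ∈ I ^ n • (⊤ : Submodule R M) → ∀ i, x i ∈ I ^ n) :
    Function.Bijective ((AdicCompletion.of I M).comp e) := by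
  constructor
  · rw [injective_iff_map_eq_zero]
    intro x hx
    funext i
    refine IsHausdorff.haus (I := I) inferInstance _ fun n => ?_
    rw [SModEq.zero, smul_eq_mul, Ideal.mul_top]
    refine hi n x ?_ i
    have := congrArg (fun y => y.val n) hx
    simpa [Submodule.Quotient.mk_eq_zero] using this
  · intro y
    have hrep : ∀ n, ∃ x, Submodule.Quotient.mk (e x) = y.val n := fun n => by
      obtain ⟨z, hz⟩ := Submodule.Quotient.mk_surjective _ (y.val n)
      obtain ⟨x, hx⟩ := hs n z
      exact ⟨x, ((Submodule.Quotient.eq _).mpr hx).symm.trans hz⟩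
    choose x hx using hrep
    have hcauchy : ∀ {m n}, m ≤ n → ∀ i, x n i - x m i ∈ I ^ m := fun {m n} hmn i => by
      refine hi m (x n - x m) ?_ i
      rw [map_sub, ← Submodule.Quotient.eq, hx m, ← y.property hmn, ← hx n]
      rfl
    have hlim : ∀ i, ∃ L, ∀ n, x n i - L ∈ I ^ n := fun i => by
      obtain ⟨L, hL⟩ := IsPrecomplete.prec (I := I) (M := R) inferInstance (f := fun n => x n i)
        fun {m n} hmn => by
          rw [SModEq.sub_mem, smul_eq_mul, Ideal.mul_top, ← neg_sub]
          exact neg_mem (hcauchy hmn i)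
      exact ⟨L, fun n => by simpa [SModEq.sub_mem, Ideal.mul_top] using hL n⟩
    choose L hL using hlim
    refine ⟨L, AdicCompletion.ext fun n => ?_⟩
    show Submodule.Quotient.mk (e L) = _
    rw [← hx n, Submodule.Quotient.eq, ← map_sub]
    have hmem : L - x n ∈ I ^ n • (⊤ : Submodule R (Fin d → R)) := mem_smul_top_of_coord fun i => by
      rw [Pi.sub_apply, ← neg_sub]
      exact neg_mem (hL i n)
    have h1 : e (L - x n) ∈ I ^ n • (⊤ : Submodule R (Fin d → R)).map e := by
      rw [← Submodule.map_smul'']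
      exact Submodule.mem_map_of_mem hmem
    exact Submodule.smul_mono le_rfl le_top h1

/-- A lift of a basis modulo `I` is a basis of the completion when the truncations are projective. -/
theorem exists_completion_basis [IsAdicComplete I R] (b : Module.Basis (Fin d) (R ⧸ I) ((R ⧸ I) ⊗[R] M))
    (hproj : ∀ n, 1 ≤ n → Module.Projective (R ⧸ I ^ n) ((R ⧸ I ^ n) ⊗[R] M)) :
    Nonempty (Module.Basis (Fin d) R (AdicCompletion I M)) := by
  have hsurjmk : ∀ z : (R ⧸ I) ⊗[R] M, ∃ z', (1 : R ⧸ I) ⊗ₜ[R] z' = z :=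
    TensorProduct.mk_surjective R M (R ⧸ I) Ideal.Quotient.mk_surjective
  choose w hw using fun i => hsurjmk (b i)
  let e : (Fin d → R) →ₗ[R] M := Fintype.linearCombination R w
  have he : ∀ x, (1 : R ⧸ I) ⊗ₜ[R] e x = ∑ i, Ideal.Quotient.mk I (x i) • b i := fun x => by
    simp only [e, Fintype.linearCombination_apply, TensorProduct.tmul_sum]
    refine Finset.sum_congr rfl fun i _ => ?_
    rw [TensorProduct.tmul_smul, hw, ← Ideal.Quotient.algebraMap_eq, algebraMap_smul]
  have hs1 : ∀ z, ∃ x, z - e x ∈ I • (⊤ : Submodule R M) := fun z => by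
    choose x hx using fun i => Ideal.Quotient.mk_surjective (b.repr ((1 : R ⧸ I) ⊗ₜ[R] z) i)
    refine ⟨x, (tmul_eq_zero_iff I _).mp ?_⟩
    rw [TensorProduct.tmul_sub, he, sub_eq_zero]
    simp only [hx]
    exact (b.sum_repr _).symm
  have hs : ∀ n, ∀ z, ∃ x, z - e x ∈ I ^ n • (⊤ : Submodule R M) := fun n => by
    induction n with
    | zero => exact fun z => ⟨0, by simp⟩
    | succ n ih =>
      intro z
      obtain ⟨x, hx⟩ := ih z
      have hle : I ^ n • (⊤ : Submodule R M) ≤ LinearMap.range e ⊔ I ^ (n + 1) • ⊤ := by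
        refine Submodule.smul_le.mpr fun a ha m _ => ?_
        obtain ⟨y, hy⟩ := hs1 m
        rw [show a • m = e (a • y) + a • (m - e y) by rw [map_smul, smul_sub]; abel]
        refine Submodule.add_mem_sup ⟨_, rfl⟩ ?_
        rw [pow_succ, Submodule.mul_smul]
        exact Submodule.smul_mem_smul ha hy
      obtain ⟨_, ⟨y, rfl⟩, r, hr, hyr⟩ := Submodule.mem_sup.mp (hle hx)
      refine ⟨x + y, ?_⟩
      rw [map_add, show z - (e x + e y) = r by rw [← sub_sub, ← hyr]; abel]
      exact hr
  have hi : ∀ n x, e x ∈ I ^ n • (⊤ : Submodule R M) → ∀ i, x i ∈ I ^ n := fun n => by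
    rcases Nat.eq_zero_or_pos n with rfl | hn
    · simp
    intro x hx
    haveI := hproj n hn
    let Rn := R ⧸ I ^ n
    let en : (Fin d → Rn) →ₗ[Rn] Rn ⊗[R] M := Fintype.linearCombination Rn fun i => (1 : Rn) ⊗ₜ[R] w i
    have hen : ∀ y : Fin d → R, en (fun i => Ideal.Quotient.mk (I ^ n) (y i)) = (1 : Rn) ⊗ₜ[R] e y := fun y => by
      simp only [en, e, Fintype.linearCombination_apply, TensorProduct.tmul_sum]
      refine Finset.sum_congr rfl fun i _ => ?_
      rw [TensorProduct.tmul_smul, ← Ideal.Quotient.algebraMap_eq, algebraMap_smul]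
    have hens : Function.Surjective en := fun z => by
      obtain ⟨m, rfl⟩ := TensorProduct.mk_surjective R M Rn Ideal.Quotient.mk_surjective z
      obtain ⟨y, hy⟩ := hs n m
      refine ⟨fun i => Ideal.Quotient.mk _ (y i), ?_⟩
      rw [hen, TensorProduct.mk_apply, ← sub_eq_zero, ← TensorProduct.tmul_sub, tmul_eq_zero_iff, ← neg_sub]
      exact neg_mem hy
    obtain ⟨σ, hσ⟩ := Module.projective_lifting_property en LinearMap.id hens
    let T : (Fin d → Rn) →ₗ[Rn] (Fin d → Rn) := LinearMap.id - σ ∘ₗ en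
    let Ib := I.map (Ideal.Quotient.mk (I ^ n))
    have hT : ∀ y : Fin d → Rn, ∀ i, T y i ∈ Ib := by
      intro y i
      obtain ⟨u, hu⟩ : ∃ u : Fin d → R, T y = fun i => Ideal.Quotient.mk (I ^ n) (u i) := by
        choose u hu using fun i => Ideal.Quotient.mk_surjective (T y i)
        exact ⟨u, funext fun i => (hu i).symm⟩
      rw [hu]
      refine Ideal.mem_map_of_mem _ ?_
      have h0 : en (T y) = 0 := by
        show en (y - σ (en y)) = 0
        rw [map_sub, show en (σ (en y)) = en y from LinearMap.congr_fun hσ (en y), sub_self]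
      rw [hu, hen, tmul_eq_zero_iff] at h0
      have h1 : (1 : R ⧸ I) ⊗ₜ[R] e u = 0 :=
        (tmul_eq_zero_iff I _).mpr (Submodule.smul_mono (Ideal.pow_le_self (by omega)) le_rfl h0)
      rw [he] at h1
      exact Ideal.Quotient.eq_zero_iff_mem.mp (Fintype.linearIndependent_iff.mp b.linearIndependent _ h1 i)
    let y : Fin d → Rn := fun i => Ideal.Quotient.mk (I ^ n) (x i)
    have hy0 : en y = 0 := by rw [hen, tmul_eq_zero_iff]; exact hx
    have hTy : T y = y := by show y - σ (en y) = y; rw [hy0, map_zero, sub_zero]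
    have hpow : ∀ j i, y i ∈ Ib ^ j := by
      intro j
      induction j with
      | zero => simp
      | succ j ih =>
        intro i
        have hsum : T y i = ∑ k, T (y k • fun l => if k = l then 1 else 0) i := by
          rw [← Finset.sum_apply, ← map_sum, ← pi_eq_sum_univ y]
        rw [← congrFun hTy i, hsum]
        refine sum_mem fun k _ => ?_
        rw [map_smul, Pi.smul_apply, smul_eq_mul, pow_succ]
        exact Ideal.mul_mem_mul (ih k) (hT _ i)
    intro i
    have h2 := hpow n i
    rw [← Ideal.map_pow, Ideal.map_quotient_self, Ideal.mem_bot, Ideal.Quotient.eq_zero_iff_mem] at h2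
    exact h2
  exact ⟨(Module.Basis.ofEquivFun (LinearEquiv.ofBijective _ (bijective_of_comp I e hs hi)).symm)⟩

end Groth.Agent.EGA41SymGr
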