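/-
The fibre at the closed point of the differentials of an adically formally smooth local algebra.
-/
import Groth.Agent.EGA41SymGr.Model
import Groth.Agent.EGA41SymGr.Completion
import Groth.Agent.S2469

set_option autoImplicit false

universe u

open TensorProduct IsLocalRing

namespace Groth.Agent.EGA41SymGr

variable {k A : Type u} [Field k] [CommRing A] [IsLocalRing A] [IsNoetherianRing A] [Algebra k A]

/-- The kernel of the residue map on absolute differentials is the cotangent space. -/
theorem exists_cotangent_absolute {A : Type u} [CommRing A] [IsLocalRing A] (k : Type u) [Field k] [Algebra k A] :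
    ∃ c : CotangentSpace A →ₗ[ResidueField A] ResidueField A ⊗[A] Ω[A⁄ℤ],
      Function.Injective c ∧ (∀ j : maximalIdeal A, c ((maximalIdeal A).toCotangent j) = 1 ⊗ₜ[A] KaehlerDifferential.D ℤ A j) ∧
      LinearMap.range c = LinearMap.ker (KaehlerDifferential.mapBaseChange ℤ A (ResidueField A)) := by
  classical
  set K := ResidueField A
  let c₀ : maximalIdeal A →ₗ[A] K ⊗[A] Ω[A⁄ℤ] :=
    { toFun := fun j => (1 : K) ⊗ₜ[A] KaehlerDifferential.D ℤ A j
      map_add' := fun a b => by rw [Submodule.coe_add, map_add, TensorProduct.tmul_add]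
      map_smul' := fun r j => by
        rw [RingHom.id_apply, Submodule.coe_smul, smul_eq_mul, Derivation.leibniz, TensorProduct.tmul_add,
          ← TensorProduct.tmul_smul]
        have h0 : (1 : K) ⊗ₜ[A] ((j : A) • KaehlerDifferential.D ℤ A r) = 0 := by
          rw [← TensorProduct.smul_tmul, Algebra.smul_def, show algebraMap A K j = 0 from
            (residue_eq_zero_iff _).mpr j.2, zero_mul, TensorProduct.zero_tmul]
        rw [h0, add_zero] }
  have hc₀ : (maximalIdeal A • ⊤ : Submodule A (maximalIdeal A)) ≤ LinearMap.ker c₀ :=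
    Submodule.smul_le.mpr fun r hr j _ => by
      rw [LinearMap.mem_ker, map_smul, ← algebraMap_smul K r, show algebraMap A K r = 0 from
        (residue_eq_zero_iff _).mpr hr, zero_smul]
  let c₁ : CotangentSpace A →ₗ[A] K ⊗[A] Ω[A⁄ℤ] := Submodule.liftQ _ c₀ hc₀
  let c : CotangentSpace A →ₗ[K] K ⊗[A] Ω[A⁄ℤ] :=
    { toFun := c₁
      map_add' := map_add c₁
      map_smul' := fun s x => by
        obtain ⟨r, rfl⟩ := residue_surjective s
        show c₁ ((algebraMap A K r) • x) = (algebraMap A K r) • c₁ x
        rw [algebraMap_smul, algebraMap_smul, map_smul] }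
  have hcj : ∀ j : maximalIdeal A, c ((maximalIdeal A).toCotangent j) = 1 ⊗ₜ[A] KaehlerDifferential.D ℤ A j :=
    fun j => rfl
  refine ⟨c, ?_, hcj, ?_⟩
  · -- a derivation splitting the conormal map
    let F := (⊥ : Subfield k)
    letI : Field (A ⧸ maximalIdeal A) := Ideal.Quotient.field _
    haveI : Algebra.FormallySmooth F (A ⧸ maximalIdeal A) := Groth.Agent.FSField.formallySmooth_of_perfectField _ _
    obtain ⟨sec, hsec⟩ := exists_section_mod (A := F) (maximalIdeal A) 1
    let q := Ideal.Quotient.mk (maximalIdeal A ^ (1 + 1))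
    let δ₀ : A → A ⧸ maximalIdeal A ^ (1 + 1) := fun a => q a - sec (Ideal.Quotient.mk _ a)
    have hmem : ∀ a, δ₀ a ∈ (maximalIdeal A).cotangentIdeal := fun a => by
      obtain ⟨b, hb⟩ := Ideal.Quotient.mk_surjective (sec (Ideal.Quotient.mk (maximalIdeal A) a))
      refine ⟨a - b, ?_, (map_sub q a b).trans (congrArg (q a - ·) hb)⟩
      show a - b ∈ maximalIdeal A
      have := hsec (Ideal.Quotient.mk (maximalIdeal A) a)
      rw [← hb, Ideal.Quotient.factor_mk, Ideal.Quotient.eq] at this
      rw [← neg_sub]
      exact neg_mem this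
    have hsq : ∀ x ∈ (maximalIdeal A).cotangentIdeal, ∀ y ∈ (maximalIdeal A).cotangentIdeal, x * y = 0 := fun x hx y hy => by
      have := Ideal.mul_mem_mul hx hy
      rwa [← pow_two, Ideal.cotangentIdeal_square, Ideal.mem_bot] at this
    let δ : A → CotangentSpace A := fun a => (maximalIdeal A).cotangentEquivIdeal.symm ⟨δ₀ a, hmem a⟩
    have hval : ∀ a, ((maximalIdeal A).cotangentEquivIdeal (δ a) : A ⧸ maximalIdeal A ^ (1 + 1)) = δ₀ a := fun a =>
      congrArg Subtype.val (LinearEquiv.apply_symm_apply _ _)
    have inj : ∀ x y : CotangentSpace A, ((maximalIdeal A).cotangentEquivIdeal x : A ⧸ maximalIdeal A ^ (1 + 1)) =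
        (maximalIdeal A).cotangentEquivIdeal y → x = y := fun x y h =>
      (maximalIdeal A).cotangentEquivIdeal.injective (Subtype.ext h)
    let δl : A →ₗ[ℤ] CotangentSpace A := (AddMonoidHom.mk' δ fun a b => inj _ _ (by
      rw [map_add, Submodule.coe_add, hval, hval, hval]
      simp only [δ₀, map_add]
      abel)).toIntLinearMap
    let D : Derivation ℤ A (CotangentSpace A) := Derivation.mk' δl fun a b => inj _ _ (by
      show ((maximalIdeal A).cotangentEquivIdeal (δ (a * b)) : A ⧸ maximalIdeal A ^ (1 + 1)) = _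
      rw [map_add, Submodule.coe_add, map_smul, map_smul, Submodule.coe_smul_of_tower, Submodule.coe_smul_of_tower,
        show δl b = δ b from rfl, show δl a = δ a from rfl, hval, hval, hval, Algebra.smul_def, Algebra.smul_def,
        Ideal.Quotient.algebraMap_eq]
      have h0 := hsq _ (hmem a) _ (hmem b)
      simp only [δ₀, map_mul] at h0 ⊢
      linear_combination -h0)
    let L := D.liftKaehlerDifferential.liftBaseChange K
    have hL : ∀ x, L (c x) = x := fun x => by
      obtain ⟨j, rfl⟩ := Ideal.toCotangent_surjective _ x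
      rw [hcj, LinearMap.liftBaseChange_tmul, one_smul, Derivation.liftKaehlerDifferential_comp_D]
      refine inj _ _ ?_
      show ((maximalIdeal A).cotangentEquivIdeal (δ j) : A ⧸ maximalIdeal A ^ (1 + 1)) = _
      rw [hval, Ideal.cotangentEquivIdeal_apply]
      show q j - sec (Ideal.Quotient.mk (maximalIdeal A) (j : A)) = q j
      rw [Ideal.Quotient.eq_zero_iff_mem.mpr j.2, map_zero, sub_zero]
    exact Function.LeftInverse.injective hL
  · ext x
    have hex := KaehlerDifferential.exact_kerCotangentToTensor_mapBaseChange ℤ A K residue_surjective x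
    constructor
    · rintro ⟨y, rfl⟩
      obtain ⟨j, rfl⟩ := Ideal.toCotangent_surjective _ y
      show KaehlerDifferential.mapBaseChange ℤ A K (c _) = 0
      rw [hcj, KaehlerDifferential.mapBaseChange_tmul, one_smul, KaehlerDifferential.map_D,
        show algebraMap A K j = 0 from (residue_eq_zero_iff _).mpr j.2, map_zero]
    · intro hx
      obtain ⟨y, rfl⟩ := hex.mp hx
      obtain ⟨⟨j, hj⟩, rfl⟩ := Ideal.toCotangent_surjective _ y
      rw [KaehlerDifferential.kerCotangentToTensor_toCotangent]
      exact ⟨(maximalIdeal A).toCotangent ⟨j, (residue_eq_zero_iff _).mp (RingHom.mem_ker.mp hj)⟩, hcj _⟩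

/-- The dimension of the fibre of the relative differentials. -/
theorem finrank_residue_tensor_kaehler [Algebra.EssFiniteType k (ResidueField A)]
    (h : CAlgX.IsAdicFormallySmooth k A (maximalIdeal A)) :
    Module.Finite (ResidueField A) (ResidueField A ⊗[A] Ω[A⁄k]) ∧
      Module.finrank (ResidueField A) (ResidueField A ⊗[A] Ω[A⁄k]) =
        Module.finrank (ResidueField A) (CotangentSpace A) +
          Cardinal.toNat (Algebra.trdeg k (ResidueField A)) := by
  classical
  set K := ResidueField A
  obtain ⟨hΩ, hΥ, hcart⟩ := Groth.Agent.S2469.result (K := k) (L := K)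
  haveI := hΩ
  haveI := hΥ
  obtain ⟨c, hcinj, hcj, hcr⟩ := exists_cotangent_absolute (A := A) k
  have hu := injective_of_isAdicFormallySmooth (Λ := ℤ) h
  let u := (KaehlerDifferential.mapBaseChange ℤ k A).baseChange K
  let θ := TensorProduct.AlgebraTensorModule.cancelBaseChange k A K K (Ω[k⁄ℤ])
  let w : K ⊗[k] Ω[k⁄ℤ] →ₗ[K] K ⊗[A] Ω[A⁄ℤ] := u ∘ₗ θ.symm.toLinearMap
  have hw : Function.Injective w := (show Function.Injective u from hu).comp θ.symm.injective
  let q := (KaehlerDifferential.map ℤ k A A).baseChange K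
  have hqs : Function.Surjective q := LinearMap.lTensor_surjective K (KaehlerDifferential.map_surjective ℤ k A)
  have hexact : Function.Exact u q :=
    lTensor_exact K (KaehlerDifferential.exact_mapBaseChange_map ℤ k A) (KaehlerDifferential.map_surjective ℤ k A)
  have hkerq : LinearMap.ker q = LinearMap.range w := by
    rw [LinearMap.range_comp_of_range_eq_top _ (LinearEquiv.range θ.symm)]
    exact LinearMap.exact_iff.mp hexact
  let p := KaehlerDifferential.mapBaseChange ℤ A K
  have hpw : p ∘ₗ w = KaehlerDifferential.mapBaseChange ℤ k K := by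
    refine TensorProduct.AlgebraTensorModule.ext fun s ω => ?_
    rw [show s ⊗ₜ[k] ω = s • ((1 : K) ⊗ₜ[k] ω) by rw [TensorProduct.smul_tmul', smul_eq_mul, mul_one], map_smul, map_smul]
    congr 1
    induction (show ω ∈ Submodule.span k (Set.range (KaehlerDifferential.D ℤ k)) by
      rw [KaehlerDifferential.span_range_derivation]; trivial) using Submodule.span_induction with
    | mem x hx =>
      obtain ⟨a, rfl⟩ := hx
      simp [p, w, u, θ, KaehlerDifferential.map_D, ← IsScalarTower.algebraMap_apply]
    | zero => simp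
    | add x y _ _ hx hy => simp only [TensorProduct.tmul_add, map_add, hx, hy]
    | smul a x _ hx =>
      simp only [TensorProduct.tmul_smul, ← algebraMap_smul K a ((1 : K) ⊗ₜ[k] x), map_smul, hx]
  let qc : CotangentSpace A →ₗ[K] K ⊗[A] Ω[A⁄k] := q ∘ₗ c
  let g := KaehlerDifferential.mapBaseChange k A K
  have hg : Function.Surjective g := fun x => by
    have hx : x ∈ Submodule.span K (Set.range (KaehlerDifferential.D k K)) := by
      rw [KaehlerDifferential.span_range_derivation]; trivial
    induction hx using Submodule.span_induction with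
    | mem x hx =>
      obtain ⟨a, rfl⟩ := hx
      obtain ⟨b, rfl⟩ := residue_surjective a
      exact ⟨(1 : K) ⊗ₜ[A] KaehlerDifferential.D k A b, by
        rw [KaehlerDifferential.mapBaseChange_tmul, one_smul, KaehlerDifferential.map_D]; rfl⟩
    | zero => exact ⟨0, map_zero _⟩
    | add x y _ _ hx hy =>
      obtain ⟨a, rfl⟩ := hx; obtain ⟨b, rfl⟩ := hy
      exact ⟨a + b, map_add _ _ _⟩
    | smul s x _ hx => obtain ⟨a, rfl⟩ := hx; exact ⟨s • a, map_smul _ _ _⟩
  have hrange : LinearMap.range qc = LinearMap.ker g := by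
    ext x
    constructor
    · rintro ⟨y, rfl⟩
      obtain ⟨j, rfl⟩ := Ideal.toCotangent_surjective _ y
      show g (q (c _)) = 0
      rw [hcj]
      simp only [q, g, LinearMap.baseChange_tmul, KaehlerDifferential.map_D, KaehlerDifferential.mapBaseChange_tmul,
        one_smul, Algebra.algebraMap_self, RingHom.id_apply]
      rw [show algebraMap A K j = 0 from (residue_eq_zero_iff _).mpr j.2, map_zero]
    · intro hx
      obtain ⟨y, rfl⟩ := ((KaehlerDifferential.exact_kerCotangentToTensor_mapBaseChange k A K residue_surjective) x).mp hx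
      obtain ⟨⟨j, hj⟩, rfl⟩ := Ideal.toCotangent_surjective _ y
      rw [KaehlerDifferential.kerCotangentToTensor_toCotangent]
      refine ⟨(maximalIdeal A).toCotangent ⟨j, (residue_eq_zero_iff _).mp (RingHom.mem_ker.mp hj)⟩, ?_⟩
      show q (c _) = _
      rw [hcj]
      simp [q, KaehlerDifferential.map_D]
  haveI : Module.Finite K (LinearMap.ker g) := hrange ▸ Module.Finite.range qc
  haveI : Module.Finite K (K ⊗[A] Ω[A⁄k]) := by
    refine ⟨Submodule.fg_of_fg_map_of_fg_inf_ker g (IsNoetherian.noetherian _) ?_⟩
    rw [top_inf_eq]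
    exact Module.Finite.iff_fg.mp inferInstance
  refine ⟨inferInstance, ?_⟩
  -- the kernel of the cotangent space in the relative differentials
  have hwc : ∀ z ∈ EGA41.imperfection ℤ k K, w z ∈ LinearMap.range c := fun z hz => by
    rw [hcr]
    show p (w z) = 0
    rw [← LinearMap.comp_apply, hpw]
    exact hz
  choose y hy using hwc
  let ι : EGA41.imperfection ℤ k K →ₗ[K] LinearMap.ker qc :=
    { toFun := fun z => ⟨y z.1 z.2, by
        show q (c (y z.1 z.2)) = 0
        rw [hy]
        exact LinearMap.mem_ker.mp (hkerq.ge ⟨_, rfl⟩)⟩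
      map_add' := fun a b => Subtype.ext (hcinj (by
        show c (y (a + b).1 _) = c (y a.1 _ + y b.1 _)
        rw [map_add, hy, hy, hy, Submodule.coe_add, map_add]))
      map_smul' := fun s a => Subtype.ext (hcinj (by
        show c (y (s • a).1 _) = c (s • y a.1 _)
        rw [map_smul, hy, hy, Submodule.coe_smul, map_smul])) }
  have hι : Function.Bijective ι := by
    constructor
    · intro a b hab
      have h1 : c (y a.1 a.2) = c (y b.1 b.2) := congrArg (fun v => c v.1) hab
      rw [hy, hy] at h1
      exact Subtype.ext (hw h1)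
    · rintro ⟨v, hv⟩
      have h1 : c v ∈ LinearMap.range w := hkerq.le hv
      obtain ⟨z, hz⟩ := h1
      have hzΥ : z ∈ EGA41.imperfection ℤ k K := by
        show KaehlerDifferential.mapBaseChange ℤ k K z = 0
        rw [← hpw, LinearMap.comp_apply, hz]
        exact LinearMap.mem_ker.mp (hcr.le ⟨v, rfl⟩)
      exact ⟨⟨z, hzΥ⟩, Subtype.ext (hcinj (by show c (y z hzΥ) = c v; rw [hy, hz]))⟩
  have e1 := qc.finrank_range_add_finrank_ker
  have e2 := g.finrank_range_add_finrank_ker
  rw [LinearMap.range_eq_top.mpr hg, finrank_top, ← hrange] at e2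
  rw [← (LinearEquiv.ofBijective ι hι).finrank_eq] at e1
  have e3 : (Module.finrank K (Ω[K⁄k]) : ℤ) - Module.finrank K (EGA41.imperfection ℤ k K) =
      (Cardinal.toNat (Algebra.trdeg k K) : ℤ) := hcart
  have e2' : Module.finrank K (Ω[K⁄k]) + Module.finrank K (LinearMap.range qc) =
      Module.finrank K (K ⊗[A] Ω[A⁄k]) := e2
  have e1' : Module.finrank K (LinearMap.range qc) + Module.finrank K (EGA41.imperfection ℤ k K) =
      Module.finrank K (CotangentSpace A) := e1
  show Module.finrank K (K ⊗[A] Ω[A⁄k]) = Module.finrank K (CotangentSpace A) + Cardinal.toNat (Algebra.trdeg k K)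
  omega

end Groth.Agent.EGA41SymGr
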